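import Groth.Prelude.Def_Red
import Groth.Prelude.Def_AGF
import Groth.Agent.Lib.OrbitTop19.Base
import Groth.Agent.Lib.AbRigid.Connected
import Groth.Agent.Lib.InvRing21.Quot
import Mathlib.AlgebraicGeometry.Morphisms.FlatDescent
import Mathlib.AlgebraicGeometry.Morphisms.Proper
import Mathlib.AlgebraicGeometry.Geometrically.Irreducible

/-!
# Quotients and properness under extension of the base field
-/

set_option autoImplicit false
set_option linter.style.haveILetI false
set_option backward.isDefEq.respectTransparency.types false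
universe u

open CategoryTheory MonoidalCategory CartesianMonoidalCategory MonObj AlgebraicGeometry
open CategoryTheory.Functor.LaxMonoidal

noncomputable section

namespace Groth.Agent.BorelFix21

open scoped CategoryTheory.Obj

variable {k K : Type u} [Field k] [Field K] (φ : Spec (CommRingCat.of K) ⟶ Spec (CommRingCat.of k))

theorem isPullback_bc (X : Over (Spec (CommRingCat.of k))) :
    IsPullback (Limits.pullback.fst X.hom φ) ((Over.pullback φ).obj X).hom X.hom φ :=
  IsPullback.of_hasPullback X.hom φ

theorem isPullback_bc_map {X Y : Over (Spec (CommRingCat.of k))} (f : X ⟶ Y) :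
    IsPullback (Limits.pullback.fst X.hom φ) ((Over.pullback φ).map f).left f.left (Limits.pullback.fst Y.hom φ) := by
  refine IsPullback.of_bot (v₂₁ := ((Over.pullback φ).obj Y).hom) (v₂₂ := Y.hom) (h₃₁ := φ) ?_ ?_
    (isPullback_bc φ Y)
  · rw [Over.w f, Over.w ((Over.pullback φ).map f)]
    exact isPullback_bc φ X
  · exact (Limits.pullback.lift_fst _ _ _).symm

theorem smooth_bc (X : Over (Spec (CommRingCat.of k))) [Smooth X.hom] : Smooth ((Over.pullback φ).obj X).hom :=
  MorphismProperty.of_isPullback (P := @Smooth) (isPullback_bc φ X) ‹_›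

theorem isAffine_bc (X : Over (Spec (CommRingCat.of k))) [IsAffine X.left] : IsAffine ((Over.pullback φ).obj X).left :=
  inferInstanceAs (IsAffine (Limits.pullback X.hom φ))

theorem connectedSpace_bc (G : Over (Spec (CommRingCat.of k))) [GrpObj G] [LocallyOfFiniteType G.hom]
    [ConnectedSpace G.left] : ConnectedSpace ((Over.pullback φ).obj G).left := by
  haveI := AbRigid.geometricallyIrreducible_of_connected G
  haveI : IrreducibleSpace ↥(Spec (CommRingCat.of K)) :=
    ⟨⟨IsLocalRing.closedPoint K⟩⟩
  haveI : IrreducibleSpace ↥(Limits.pullback G.hom φ) := inferInstance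
  exact inferInstanceAs (ConnectedSpace ↥(Limits.pullback G.hom φ))

theorem isClosedImmersion_bc {X Y : Over (Spec (CommRingCat.of k))} (f : X ⟶ Y) [IsClosedImmersion f.left] :
    IsClosedImmersion ((Over.pullback φ).map f).left :=
  MorphismProperty.of_isPullback (P := @IsClosedImmersion) (isPullback_bc_map φ f) ‹_›

theorem surjective_bc {X Y : Over (Spec (CommRingCat.of k))} (f : X ⟶ Y) [Surjective f.left] :
    Surjective ((Over.pullback φ).map f).left :=
  MorphismProperty.of_isPullback (P := @Surjective) (isPullback_bc_map φ f) ‹_›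

/-- The base change of a quotient is the quotient of the base changes. -/
theorem isQuotient_bc {G H X : Over (Spec (CommRingCat.of k))} [GrpObj G] [GrpObj H] {i : H ⟶ G}
    {a : AlgGrp.Action G X} {o : 𝟙_ (Over (Spec (CommRingCat.of k))) ⟶ X} (hX : AGF.IsQuotient i X a o) :
    AGF.IsQuotient ((Over.pullback φ).map i) ((Over.pullback φ).obj X) (OrbitTop19.mapAction (Over.pullback φ) a)
      (ε (Over.pullback φ) ≫ (Over.pullback φ).map o) := by
  obtain ⟨hlft, hflat, hsurj, hpb⟩ := hX
  set F := Over.pullback φ
  have horb : (OrbitTop19.mapAction F a).orbitMap (ε F ≫ F.map o) = F.map (a.orbitMap o) :=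
    OrbitTop19.map_orbitMap F a o
  refine ⟨MorphismProperty.of_isPullback (P := @LocallyOfFiniteType) (isPullback_bc φ X) hlft, ?_, ?_, ?_⟩
  · rw [horb]
    exact MorphismProperty.of_isPullback (P := @Flat) (isPullback_bc_map φ _) hflat
  · rw [horb]
    exact MorphismProperty.of_isPullback (P := @Surjective) (isPullback_bc_map φ _) hsurj
  · rw [horb]
    refine (hpb.map F).of_iso (Functor.Monoidal.μIso F G H).symm (Iso.refl _) (Iso.refl _) (Iso.refl _) ?_ ?_
      (by simp) (by simp)
    · simp only [Iso.refl_hom, Category.comp_id, Iso.symm_hom, Functor.Monoidal.μIso_inv]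
      exact (Functor.OplaxMonoidal.δ_fst F G H).symm
    · simp only [Iso.refl_hom, Category.comp_id, Iso.symm_hom, Functor.Monoidal.μIso_inv]
      rw [show μ[F.obj G] = Functor.LaxMonoidal.μ F G G ≫ F.map μ[G] from rfl, μ_natural_right_assoc,
        Functor.Monoidal.δ_μ_assoc, F.map_comp]

/-- Properness of a separated scheme of finite type may be checked after extending the field. -/
theorem isProper_of_bc {X : Over (Spec (CommRingCat.of k))} [IsSeparated X.hom] [LocallyOfFiniteType X.hom]
    [IsProper ((Over.pullback φ).obj X).hom] : IsProper X.hom := by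
  haveI : Surjective φ := ⟨fun x => ⟨IsLocalRing.closedPoint K, Subsingleton.elim (α := Spec (CommRingCat.of k)) _ _⟩⟩
  haveI : UniversallyClosed X.hom :=
    MorphismProperty.of_isPullback_of_descendsAlong (P := @UniversallyClosed)
      (Q := @Surjective ⊓ @Flat ⊓ @QuasiCompact) (isPullback_bc φ X).flip
      ⟨⟨inferInstance, inferInstance⟩, inferInstance⟩ inferInstance
  exact { }

theorem isProper_bc (X : Over (Spec (CommRingCat.of k))) [IsProper X.hom] : IsProper ((Over.pullback φ).obj X).hom :=
  MorphismProperty.of_isPullback (P := @IsProper) (isPullback_bc φ X) ‹_›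

end Groth.Agent.BorelFix21
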