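import Groth.Agent.Lib.BorelFix21.Orbit
import Groth.Agent.Lib.Stab19.Basic
import Groth.Agent.Lib.PerfProd19.Basic
import Groth.Agent.Lib.GrpSmooth19.Basic

/-!
# Stabilisers of rational points and reduced subgroups
-/

set_option autoImplicit false
set_option linter.style.haveILetI false
set_option backward.isDefEq.respectTransparency.types false
universe u

open CategoryTheory MonoidalCategory CartesianMonoidalCategory MonObj AlgebraicGeometry

noncomputable section

namespace Groth.Agent.BorelFix21

variable {k : Type u} [Field k] {G X : Over (Spec (CommRingCat.of k))} [GrpObj G]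

/-- The stabilizer of a rational point. -/
theorem exists_stabilizer [IsSeparated X.hom] (a : AlgGrp.Action G X) (x : 𝟙_ (Over (Spec (CommRingCat.of k))) ⟶ X) :
    ∃ (Go : Over (Spec (CommRingCat.of k))) (_ : GrpObj Go) (i : Go ⟶ G), IsMonHom i ∧ IsClosedImmersion i.left ∧
      IsPullback i (toUnit Go) (a.orbitMap x) x := by
  haveI : IsClosedImmersion x.left := isClosedImmersion_of_comp_eq_id X.hom x.left (Over.w x)
  let Go : Over (Spec (CommRingCat.of k)) := Over.mk (Limits.pullback.fst (a.orbitMap x).left x.left ≫ G.hom)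
  let i : Go ⟶ G := Over.homMk (Limits.pullback.fst (a.orbitMap x).left x.left) rfl
  haveI : IsClosedImmersion i.left := inferInstanceAs (IsClosedImmersion (Limits.pullback.fst _ _))
  have hsq : IsPullback i (toUnit Go) (a.orbitMap x) x := by
    have e : (Limits.pullback.snd (a.orbitMap x).left x.left) = Go.hom := by
      have h : x.left ≫ X.hom = 𝟙 _ := Over.w x
      show Limits.pullback.snd _ _ = Limits.pullback.fst _ _ ≫ G.hom
      rw [← Over.w (a.orbitMap x), Limits.pullback.condition_assoc, h]
      exact (Category.comp_id _).symm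
    refine IsPullback.of_map (Over.forget _) (Over.OverMorphism.ext ?_) ?_
    · show i.left ≫ _ = (toUnit Go).left ≫ x.left
      rw [show (toUnit Go).left = Go.hom from rfl, ← e]
      exact Limits.pullback.condition
    · show IsPullback i.left (toUnit Go).left (a.orbitMap x).left x.left
      rw [show (toUnit Go).left = Go.hom from rfl, ← e]
      exact IsPullback.of_hasPullback _ _
  haveI : Mono i := Over.mono_of_mono_left i
  have hgo : ∀ {T : Over (Spec (CommRingCat.of k))} (g : T ⟶ G),
      g ≫ a.orbitMap x = lift g (toUnit T ≫ x) ≫ a.act := fun g => AlgGrp.Action.comp_orbitMap a g x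
  have hi : ∀ {T : Over (Spec (CommRingCat.of k))} (p : T ⟶ Go), (p ≫ i) ≫ a.orbitMap x = toUnit T ≫ x :=
    fun p => by rw [Category.assoc, hsq.w, ← Category.assoc, comp_toUnit]
  have hone : η[G] ≫ a.orbitMap x = 𝟙 _ ≫ x := by
    rw [hgo, toUnit_unique (toUnit (𝟙_ (Over (Spec (CommRingCat.of k))))) (𝟙 _), Category.id_comp,
      MonObj.one_eq_one, AlgGrpBasic19.act_one]
  let e : 𝟙_ _ ⟶ Go := hsq.lift η[G] (𝟙 _) hone
  let m : Go ⊗ Go ⟶ Go := hsq.lift ((fst Go Go ≫ i) * (snd Go Go ≫ i)) (toUnit _) (by
    have h1 := hi (fst Go Go)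
    have h2 := hi (snd Go Go)
    rw [hgo] at h1 h2 ⊢
    rw [AlgGrpBasic19.act_mul, h2, h1])
  let v : Go ⟶ Go := hsq.lift i⁻¹ (toUnit _) (by
    have h1 := hi (𝟙 Go)
    rw [Category.id_comp, hgo] at h1
    rw [hgo]
    conv_lhs => rw [← h1, ← AlgGrpBasic19.act_mul, inv_mul_cancel, AlgGrpBasic19.act_one])
  have hm : m ≫ i = (i ⊗ₘ i) ≫ μ[G] := by
    rw [show m ≫ i = _ from hsq.lift_fst _ _ _, Hom.mul_def]
    congr 1
  have hv : v ≫ i = i ≫ ι[G] := by rw [show v ≫ i = _ from hsq.lift_fst _ _ _, Hom.inv_def]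
  have he : e ≫ i = η[G] := hsq.lift_fst _ _ _
  letI : GrpObj Go := AbRigid.grpObjOfMono i e he m hm v hv
  haveI : IsMonHom i := ⟨he, hm⟩
  exact ⟨Go, inferInstance, i, inferInstance, inferInstance, hsq⟩

/-- The reduced subgroup of a group over a perfect field. -/
theorem exists_reduced_subgroup [PerfectField k] (Go : Over (Spec (CommRingCat.of k))) [GrpObj Go]
    [LocallyOfFiniteType Go.hom] :
    ∃ (H : Over (Spec (CommRingCat.of k))) (_ : GrpObj H) (r : H ⟶ Go), IsMonHom r ∧ IsClosedImmersion r.left ∧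
      Surjective r.left ∧ IsReduced H.left ∧ Smooth H.hom := by
  let H : Over (Spec (CommRingCat.of k)) := Over.mk (Go.left.nilradical.subschemeι ≫ Go.hom)
  let r : H ⟶ Go := Over.homMk Go.left.nilradical.subschemeι rfl
  haveI : IsClosedImmersion r.left := inferInstanceAs (IsClosedImmersion Go.left.nilradical.subschemeι)
  haveI : Surjective r.left := by
    refine ⟨fun z => ?_⟩
    have h : Set.range Go.left.nilradical.subschemeι = Set.univ := by
      rw [Scheme.IdealSheafData.range_subschemeι, Scheme.support_nilradical]; rfl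
    exact h.ge (Set.mem_univ z)
  haveI : IsReduced H.left := RedSepLib.isReduced_nilradical_subscheme Go.left
  haveI : IsReduced (𝟙_ (Over (Spec (CommRingCat.of k)))).left := inferInstanceAs (IsReduced (Spec (CommRingCat.of k)))
  haveI : IsReduced (H ⊗ H).left := PerfProd19.isReduced_tensorObj H H
  haveI : Mono r := Over.mono_of_mono_left r
  obtain ⟨e', he'⟩ := PerfProd19.exists_lift_of_surjective r η[Go]
  obtain ⟨m', hm'⟩ := PerfProd19.exists_lift_of_surjective r ((r ⊗ₘ r) ≫ μ[Go])
  obtain ⟨v', hv'⟩ := PerfProd19.exists_lift_of_surjective r (r ≫ ι[Go])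
  letI : GrpObj H := AbRigid.grpObjOfMono r e' he' m' hm' v' hv'
  haveI : IsMonHom r := ⟨he', hm'⟩
  haveI : LocallyOfFiniteType H.hom := inferInstanceAs (LocallyOfFiniteType (r.left ≫ Go.hom))
  exact ⟨H, inferInstance, r, inferInstance, inferInstance, inferInstance, inferInstance,
    GrpSmooth19.smooth_of_isReduced H⟩

end Groth.Agent.BorelFix21
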