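import Groth.Agent.Lib.OrbitTop19.Closed
import Groth.Agent.Lib.OrbitTop19.Descend
import Groth.Agent.Lib.OrbitTop19.Smooth
import Groth.Agent.Lib.AlgGrpBasic19.Basic
import Groth.Agent.Lib.InvRing21.Coef
import Groth.Prelude.Def_ChGrp
import Mathlib.AlgebraicGeometry.Morphisms.Proper

/-!
# Closed orbits, fixed points from fixed rational points, global functions on proper varieties
-/

set_option autoImplicit false
set_option linter.style.haveILetI false
set_option backward.isDefEq.respectTransparency.types false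
universe u

open CategoryTheory MonoidalCategory CartesianMonoidalCategory MonObj AlgebraicGeometry
open Groth.Agent.OrbitTop19

noncomputable section

namespace Groth.Agent.BorelFix21

variable {k : Type u} [Field k]

attribute [local instance] InvRing21.gamAlg

/-- A proper integral scheme over an algebraically closed field has only constant functions. -/
theorem exists_eq_algebraMap [IsAlgClosed k] (Y : Over (Spec (CommRingCat.of k))) [IsIntegral Y.left]
    [UniversallyClosed Y.hom] (F : Γ(Y.left, ⊤)) : ∃ c : k, algebraMap k Γ(Y.left, ⊤) c = F := by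
  have hint : ((Scheme.ΓSpecIso (CommRingCat.of k)).inv ≫ Y.hom.appTop).hom.IsIntegral := by
    apply RingHom.isIntegral_respectsIso.2 (e := (Scheme.ΓSpecIso _).symm.commRingCatIsoToRingEquiv)
    exact isIntegral_appTop_of_universallyClosed Y.hom
  haveI : Algebra.IsIntegral k Γ(Y.left, ⊤) := ⟨hint⟩
  exact (IsAlgClosed.algebraMap_bijective_of_isIntegral (k := k) (K := Γ(Y.left, ⊤))).2 F

variable {G X : Over (Spec (CommRingCat.of k))} [GrpObj G]

/-- Translating an orbit. -/
theorem orbitMap_tr (a : AlgGrp.Action G X) (x : 𝟙_ (Over (Spec (CommRingCat.of k))) ⟶ X)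
    (γ : 𝟙_ (Over (Spec (CommRingCat.of k))) ⟶ G) :
    a.orbitMap x ≫ tr a γ = ((toUnit G ≫ γ) * 𝟙 G) ≫ a.orbitMap x := by
  rw [comp_tr, AlgGrp.Action.comp_orbitMap, AlgGrpBasic19.act_mul]
  rfl

theorem point_comp_orbitMap (a : AlgGrp.Action G X) (x : 𝟙_ (Over (Spec (CommRingCat.of k))) ⟶ X)
    (γ : 𝟙_ (Over (Spec (CommRingCat.of k))) ⟶ G) : γ ≫ a.orbitMap x = x ≫ tr a γ := by
  rw [comp_tr, AlgGrp.Action.comp_orbitMap, toUnit_unique (toUnit (𝟙_ (Over (Spec (CommRingCat.of k))))) (𝟙 _),
    Category.id_comp, Category.id_comp]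

/-- A nonempty scheme of finite type has a rational point whose orbit is closed. -/
theorem exists_closed_orbit [IsAlgClosed k] [LocallyOfFiniteType G.hom] [QuasiCompact G.hom]
    [LocallyOfFiniteType X.hom] [QuasiCompact X.hom] [Nonempty X.left] (a : AlgGrp.Action G X) :
    ∃ x : 𝟙_ (Over (Spec (CommRingCat.of k))) ⟶ X, IsClosed (Set.range (a.orbitMap x).left) := by
  haveI : JacobsonSpace X.left := LocallyOfFiniteType.jacobsonSpace X.hom
  haveI : JacobsonSpace G.left := LocallyOfFiniteType.jacobsonSpace G.hom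
  haveI : IsLocallyNoetherian X.left := LocallyOfFiniteType.isLocallyNoetherian X.hom
  haveI : CompactSpace X.left := QuasiCompact.compactSpace_of_compactSpace X.hom
  haveI : IsNoetherian X.left := ⟨⟩
  set pt : Spec (CommRingCat.of k) := IsLocalRing.closedPoint k
  let O : (𝟙_ (Over (Spec (CommRingCat.of k))) ⟶ X) → Set X.left := fun x => Set.range (a.orbitMap x).left
  let C : (𝟙_ (Over (Spec (CommRingCat.of k))) ⟶ X) → TopologicalSpace.Closeds X.left :=
    fun x => ⟨closure (O x), isClosed_closure⟩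
  have himg : ∀ (x : 𝟙_ (Over (Spec (CommRingCat.of k))) ⟶ X) γ, (a.orbitMap x).left (γ.left pt) = (tr a γ).left (x.left pt) :=
    fun x γ => by
      rw [apply_comp_left γ (a.orbitMap x) _ rfl, apply_comp_left x (tr a γ) _ rfl, point_comp_orbitMap]
  have hstab : ∀ x γ, ∀ z ∈ O x, (tr a γ).left z ∈ O x := by
    rintro x γ _ ⟨g, rfl⟩
    exact ⟨((toUnit G ≫ γ) * 𝟙 G).left g, by
      rw [apply_comp_left (a.orbitMap x) (tr a γ) _ (orbitMap_tr a x γ)]
      exact apply_comp_left _ _ _ rfl g⟩
  obtain ⟨z, -, hz⟩ := nonempty_inter_closedPoints (Set.univ_nonempty (α := X.left)) isOpen_univ.isLocallyClosed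
  obtain ⟨x₀, -⟩ := exists_point X z hz
  obtain ⟨_, ⟨x, rfl⟩, hmin⟩ := (wellFounded_lt (α := TopologicalSpace.Closeds X.left)).has_min
    (Set.range C) ⟨C x₀, x₀, rfl⟩
  refine ⟨x, ?_⟩
  have hlc : IsLocallyClosed (O x) := isLocallyClosed_range_orbitMap a x
  by_contra hnc
  have hne : (closure (O x) \ O x).Nonempty :=
    Set.diff_nonempty.2 fun h => hnc (isClosed_of_closure_subset h)
  have hcl : IsClosed (closure (O x) \ O x) := isOpen_compl_iff.1 hlc.isOpen_coborder
  obtain ⟨z, ⟨hzC, hzO⟩, hzc⟩ := nonempty_inter_closedPoints hne hcl.isLocallyClosed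
  obtain ⟨x', rfl⟩ := exists_point X z hzc
  have hsub : O x' ⊆ closure (O x) := by
    rintro _ ⟨g, rfl⟩
    have hcl' : IsClosed ((a.orbitMap x').left ⁻¹' closure (O x)) :=
      isClosed_closure.preimage (a.orbitMap x').left.continuous
    by_contra hg
    obtain ⟨q, hq, hqc⟩ := nonempty_inter_closedPoints (⟨g, hg⟩ : ((a.orbitMap x').left ⁻¹' closure (O x))ᶜ.Nonempty)
      hcl'.isOpen_compl.isLocallyClosed
    obtain ⟨γ, rfl⟩ := exists_point G q hqc
    refine hq ?_
    show (a.orbitMap x').left (γ.left pt) ∈ closure (O x)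
    rw [himg]
    exact map_mem_closure (tr a γ).left.continuous hzC (hstab x γ)
  have hle : C x' ≤ C x := closure_minimal hsub isClosed_closure
  have heq : C x' = C x := hle.eq_of_not_lt (hmin _ ⟨x', rfl⟩)
  have hx : x.left pt ∈ O x := ⟨η[G].left pt, by
    rw [apply_comp_left η[G] (a.orbitMap x) x ?_]
    rw [AlgGrp.Action.comp_orbitMap, toUnit_unique (toUnit (𝟙_ (Over (Spec (CommRingCat.of k))))) (𝟙 _),
      Category.id_comp, MonObj.one_eq_one, AlgGrpBasic19.act_one]⟩
  have hx' : x.left pt ∈ closure (O x') := by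
    have := congrArg (fun D : TopologicalSpace.Closeds X.left => (D : Set X.left)) heq
    exact this.ge (subset_closure hx)
  obtain ⟨_, hU, g, rfl⟩ := mem_closure_iff.1 hx' _ hlc.isOpen_coborder (subset_coborder hx)
  obtain ⟨q, hq, hqc⟩ := nonempty_inter_closedPoints (⟨g, hU⟩ : ((a.orbitMap x').left ⁻¹' coborder (O x)).Nonempty)
    (hlc.isOpen_coborder.preimage (a.orbitMap x').left.continuous).isLocallyClosed
  obtain ⟨γ, rfl⟩ := exists_point G q hqc
  have hmem : (tr a γ).left (x'.left pt) ∈ O x := by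
    rw [← himg]
    by_contra h
    exact hq ⟨hsub ⟨_, rfl⟩, h⟩
  refine hzO ?_
  have h1 := hstab x γ⁻¹ _ hmem
  rwa [apply_comp_left (tr a γ) (tr a γ⁻¹) _ (tr_inv a γ), Over.id_left] at h1

/-- A rational point fixed by all rational points of a smooth group is fixed. -/
theorem isFixedPt_of_points [IsAlgClosed k] [Smooth G.hom] [LocallyOfFiniteType X.hom] [IsSeparated X.hom]
    (a : AlgGrp.Action G X) (x : 𝟙_ (Over (Spec (CommRingCat.of k))) ⟶ X)
    (h : ∀ γ : 𝟙_ (Over (Spec (CommRingCat.of k))) ⟶ G, γ ≫ a.orbitMap x = x) : a.IsFixedPt x := by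
  haveI : IsReduced G.left := isReduced_of_smooth G.hom
  haveI : JacobsonSpace G.left := LocallyOfFiniteType.jacobsonSpace G.hom
  haveI hci : IsClosedImmersion x.left := isClosedImmersion_of_comp_eq_id X.hom x.left (Over.w x)
  have hr : Set.range (a.orbitMap x).left ⊆ Set.range x.left := by
    rintro _ ⟨g, rfl⟩
    by_contra hg
    obtain ⟨q, hq, hqc⟩ := nonempty_inter_closedPoints
      (⟨g, hg⟩ : ((a.orbitMap x).left ⁻¹' Set.range x.left)ᶜ.Nonempty)
      (x.left.isClosedEmbedding.isClosed_range.preimage (a.orbitMap x).left.continuous).isOpen_compl.isLocallyClosed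
    obtain ⟨γ, rfl⟩ := exists_point G q hqc
    exact hq ⟨IsLocalRing.closedPoint k, (apply_comp_left γ _ _ (h γ) _).symm⟩
  obtain ⟨l, hl⟩ := exists_lift_immersion (a.orbitMap x).left x.left hr
  have hx : x.left ≫ X.hom = 𝟙 _ := Over.w x
  have hlG : l = G.hom := by
    have e : l ≫ x.left ≫ X.hom = G.hom := by rw [← Category.assoc, hl, Over.w]
    rwa [hx, Category.comp_id] at e
  have he : a.orbitMap x = toUnit G ≫ x := Over.OverMorphism.ext (by rw [← hl, hlG]; rfl)
  intro T g
  rw [← AlgGrp.Action.comp_orbitMap, he, ← Category.assoc, comp_toUnit]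

end Groth.Agent.BorelFix21
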