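import Groth.Agent.Lib.BorelFix21.Pts
import Groth.Agent.Lib.BorelFix21.Orbit
import Groth.Agent.Lib.BorelFix21.Stabilizer
import Groth.Agent.Lib.InvRing21.Line
import Groth.Agent.Lib.InvRing21.Quot
import Groth.Agent.Lib.InvRing21.Inverse
import Groth.Agent.Lib.GrpSmooth19.Basic
import Groth.Agent.Lib.Stab19.Basic
import Groth.Agent.Lib.PerfProd19.Basic
import Groth.Agent.Lib.H12.FlatComp
import Groth.Agent.S8022
import Groth.Agent.S0353
import Mathlib.Algebra.CharP.Lemmas

/-!
# Borel's fixed point theorem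
-/

set_option autoImplicit false
set_option linter.style.haveILetI false
set_option backward.isDefEq.respectTransparency.types false
universe u

open CategoryTheory MonoidalCategory CartesianMonoidalCategory MonObj AlgebraicGeometry
open scoped TensorProduct

noncomputable section

namespace Groth.Agent.BorelFix21

open InvRing21

variable {k : Type u} [Field k]

attribute [local instance] InvRing21.gamAlg
attribute [local instance] ptsTop

/-- Functions vanishing at all rational points are nilpotent. -/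
theorem isNilpotent_of_val [IsAlgClosed k] {Z : Over (Spec (CommRingCat.of k))} [IsAffine Z.left]
    [LocallyOfFiniteType Z.hom] {F : Γ(Z.left, ⊤)} (h : ∀ x : VecGrp.pt k k ⟶ Z, InvRing21.val x F = 0) :
    IsNilpotent F := by
  haveI := InvRing21.finiteType_gam Z
  have : F ∈ (⊥ : Ideal Γ(Z.left, ⊤)).radical := InvRing21.mem_radical_of_points fun χ _ => by
    have := h (VecGrp.ptMap χ ≫ InvRing21.uPt Z)
    rwa [InvRing21.val_ptMap, InvRing21.val_uPt, AlgHom.comp_id] at this
  obtain ⟨n, hn⟩ := this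
  exact ⟨n, hn⟩

variable {G : Over (Spec (CommRingCat.of k))} [GrpObj G]

/-- A function invariant at rational points has an invariant power. -/
theorem exists_pow_isRTransInv [IsAlgClosed k] [IsAffine G.left] [Smooth G.hom]
    {T : Over (Spec (CommRingCat.of k))} [GrpObj T] [IsAffine T.left] [LocallyOfFiniteType T.hom] (i : T ⟶ G)
    (ψ : Γ(G.left, ⊤))
    (h : ∀ (x : VecGrp.pt k k ⟶ G) (t : VecGrp.pt k k ⟶ T), InvRing21.val (x * (t ≫ i)) ψ = InvRing21.val x ψ) :
    ∃ N, 0 < N ∧ AGF.IsRTransInv i (ψ ^ N) := by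
  obtain ⟨p, hp⟩ := ExpChar.exists k
  cases hp with
  | zero =>
    haveI : Smooth T.hom := Groth.Agent.S0353.result k T
    exact ⟨1, one_pos, by rw [pow_one]; exact (InvRing21.isRTransInv_iff_val i ψ).2 h⟩
  | prime hq =>
    haveI : Fact p.Prime := ⟨hq⟩
    haveI : LocallyOfFiniteType (G ⊗ T).hom :=
      inferInstanceAs (LocallyOfFiniteType (Limits.pullback.fst G.hom T.hom ≫ G.hom))
    haveI : IsAffine (G ⊗ T).left := inferInstanceAs (IsAffine (Limits.pullback G.hom T.hom))
    have hnil : IsNilpotent (((G ◁ i) ≫ μ[G]).left.appTop ψ - (fst G T).left.appTop ψ) := by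
      refine isNilpotent_of_val fun z => ?_
      rw [map_sub, InvRing21.appTop_val, InvRing21.appTop_val, whisker_mul, MonObj.comp_mul, ← Category.assoc,
        h, sub_self]
    obtain ⟨n, hn⟩ := hnil
    haveI : Nontrivial Γ((G ⊗ T).left, ⊤) :=
      (InvRing21.val (lift (1 : VecGrp.pt k k ⟶ G) (1 : VecGrp.pt k k ⟶ T))).toRingHom.domain_nontrivial
    haveI : CharP Γ((G ⊗ T).left, ⊤) p :=
      charP_of_injective_algebraMap (algebraMap k Γ((G ⊗ T).left, ⊤)).injective p
    refine ⟨p ^ n, pow_pos hq.pos n, ?_⟩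
    show ((G ◁ i) ≫ μ[G]).left.appTop (ψ ^ p ^ n) = (fst G T).left.appTop (ψ ^ p ^ n)
    rw [map_pow, map_pow, ← sub_eq_zero, ← sub_pow_char_pow]
    exact pow_eq_zero_of_le (Nat.lt_pow_self hq.one_lt).le hn

variable [IsAlgClosed k] [IsAffine G.left] [Smooth G.hom]

omit [GrpObj G] [IsAffine G.left] in
/-- A function with constant positive power is constant on the points of a connected group. -/
theorem eq_of_pow_eq [ConnectedSpace G.left] (ψ : Γ(G.left, ⊤)) {N : ℕ} (hN : 0 < N) (a : k)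
    (h : ∀ x : VecGrp.pt k k ⟶ G, InvRing21.val x ψ ^ N = a) (x y : VecGrp.pt k k ⟶ G) :
    InvRing21.val x ψ = InvRing21.val y ψ := by
  haveI := preconnectedSpace_pts (G := G)
  refine eq_of_finite_range (fun z : VecGrp.pt k k ⟶ G => InvRing21.val z ψ) ?_ (fun c => isClosed_val_eq ψ c) x y
  classical
  refine (Polynomial.nthRoots N a).toFinset.finite_toSet.subset ?_
  rintro _ ⟨z, rfl⟩
  simp only [Finset.mem_coe, Multiset.mem_toFinset, Polynomial.mem_nthRoots hN]
  exact h z

variable {X : Over (Spec (CommRingCat.of k))}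

/-- In a connected group with solvable points semi-invariants have inverse semi-invariants. -/
theorem exists_inv_semi [ConnectedSpace G.left] [Group.IsSolvable (VecGrp.pt k k ⟶ G)]
    {H : Over (Spec (CommRingCat.of k))} [GrpObj H] (i : H ⟶ G) [IsMonHom i] {l : (VecGrp.pt k k ⟶ H) → k}
    {f : Γ(G.left, ⊤)} (hf : InvRing21.Semi i l f) (hf1 : InvRing21.val (1 : VecGrp.pt k k ⟶ G) f = 1) :
    ∃ d, InvRing21.Semi i l⁻¹ d ∧ InvRing21.val (1 : VecGrp.pt k k ⟶ G) d ≠ 0 := by
  obtain ⟨hl1, hlm⟩ := hf.mult (by rw [hf1]; exact one_ne_zero)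
  let f' := ((𝟙 G)⁻¹ : G ⟶ G).left.appTop f
  have hf' : ∀ x : VecGrp.pt k k ⟶ G, InvRing21.val x f' = InvRing21.val x⁻¹ f := fun x => by
    rw [InvRing21.appTop_val, GrpObj.comp_inv, Category.comp_id]
  obtain ⟨W, hWfin, hmem, hW⟩ := InvRing21.exists_stable_span (InvRing21.regular G) {f'}
  let L : Submodule k Γ(G.left, ⊤) :=
    { carrier := {w | ∀ (h : VecGrp.pt k k ⟶ H) (x : VecGrp.pt k k ⟶ G), InvRing21.val ((h ≫ i) * x) w = l h⁻¹ * InvRing21.val x w}
      zero_mem' := fun h x => by simp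
      add_mem' := fun {u v} hu hv h x => by rw [map_add, map_add, hu h x, hv h x, mul_add]
      smul_mem' := fun r u hu h x => by rw [map_smul, map_smul, hu h x, smul_eq_mul, smul_eq_mul]; ring }
  have hf'L : f' ∈ L := fun h x => by
    rw [hf', hf', mul_inv_rev, ← GrpObj.inv_comp]
    exact hf x⁻¹ h⁻¹
  have hstable : ∀ g, ∀ w ∈ W ⊓ L, (InvRing21.rTr g).left.appTop w ∈ W ⊓ L := by
    rintro g w ⟨hwW, hwL⟩
    refine ⟨?_, fun h x => ?_⟩
    · obtain ⟨n, cs, us, hus, he⟩ := hW w hwW k g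
      have : (InvRing21.rTr g).left.appTop w = ∑ a, cs a • us a := InvRing21.ext_val fun x => by
        rw [InvRing21.val_rTr, InvRing21.val_mul_eq, he, map_sum, map_sum]
        simp [smul_eq_mul]
      rw [this]
      exact Submodule.sum_mem _ fun a _ => W.smul_mem _ (hus a)
    · rw [InvRing21.val_rTr, InvRing21.val_rTr, _root_.mul_assoc (h ≫ i) x g]
      exact hwL h (x * g)
  have hne : W ⊓ L ≠ ⊥ := fun hbot => by
    have h0 : f' = 0 := (Submodule.eq_bot_iff _).1 hbot f' ⟨hmem f' (Finset.mem_singleton_self _), hf'L⟩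
    have h1 := hf' 1
    rw [inv_one, hf1, h0, map_zero] at h1
    exact zero_ne_one h1
  haveI : FiniteDimensional k ↥(W ⊓ L) := Submodule.finiteDimensional_inf_left W L
  obtain ⟨φ, hφW, hφ0, hφ⟩ := exists_eigenfunction (W ⊓ L) hne hstable
  set φ₁ := InvRing21.val (1 : VecGrp.pt k k ⟶ G) φ
  have hφg : ∀ x g, InvRing21.val (x * g) φ * φ₁ = InvRing21.val g φ * InvRing21.val x φ := fun x g => by
    obtain ⟨a, ha⟩ := hφ g
    have := ha 1
    rw [_root_.one_mul g] at this
    rw [ha x, this]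
    ring
  have hφ₁ : φ₁ ≠ 0 := fun h0 => by
    obtain ⟨x, hx⟩ := InvRing21.exists_val_ne_zero hφ0
    obtain ⟨a, ha⟩ := hφ x
    have h1 := ha 1
    rw [_root_.one_mul x] at h1
    exact hx (by rw [h1]; show a * φ₁ = 0; rw [h0, mul_zero])
  have hφne : ∀ x, InvRing21.val x φ ≠ 0 := fun x h0 => by
    have := hφg x x⁻¹
    rw [mul_inv_cancel, h0, mul_zero] at this
    exact mul_ne_zero hφ₁ hφ₁ this
  have hll : ∀ h, l h⁻¹ * l h = 1 := fun h => (hlm h h⁻¹).symm.trans (by rw [mul_inv_cancel]; exact hl1)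
  refine ⟨φ, fun x h => ?_, hφ₁⟩
  have h1 := hφW.2 h 1
  rw [_root_.mul_one (h ≫ i)] at h1
  refine mul_right_cancel₀ hφ₁ ?_
  rw [hφg, h1, Pi.inv_apply, show (l h)⁻¹ = l h⁻¹ from (eq_inv_of_mul_eq_one_left (hll h)).symm]
  ring

/-- A subgroup of a group with solvable points whose invariant functions are constant contains all rational points. -/
theorem forall_point_mem [ConnectedSpace G.left] [Group.IsSolvable (VecGrp.pt k k ⟶ G)]
    {H : Over (Spec (CommRingCat.of k))} [GrpObj H] [Smooth H.hom] (i : H ⟶ G) [IsMonHom i] [IsClosedImmersion i.left]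
    (hconst : ∀ ψ : Γ(G.left, ⊤), InvRing21.Semi i 1 ψ → ∀ x y : VecGrp.pt k k ⟶ G, InvRing21.val x ψ = InvRing21.val y ψ)
    (g : VecGrp.pt k k ⟶ G) : ∃ y : VecGrp.pt k k ⟶ H, y ≫ i = g := by
  haveI : IsAffine H.left := isAffine_of_isAffineHom i.left
  obtain ⟨χ, P, c, p₀, hχ, hsemi, hc1, hline, -⟩ := InvRing21.exists_line (i := i)
  obtain ⟨d, hd, hd1⟩ := exists_inv_semi i (hsemi p₀) hc1
  have hψ : ∀ p, InvRing21.Semi i 1 (c p * d) := fun p => ((hsemi p).mul hd).congr fun h => by
    have h0 := (hsemi p₀).ne_zero (by rw [hc1]; exact one_ne_zero) h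
    simp [mul_inv_cancel₀ h0]
  have hval : ∀ p, InvRing21.val g (c p) * InvRing21.val g d = InvRing21.val 1 (c p) * InvRing21.val 1 d := fun p => by
    have := hconst _ (hψ p) g 1
    rwa [map_mul, map_mul] at this
  have h0 := hval p₀
  rw [hc1, _root_.one_mul] at h0
  refine hline g (fun hz => hd1 (by rw [← h0, hz, zero_mul])) fun p => ?_
  refine mul_right_cancel₀ (fun hz => hd1 (by rw [← h0, hz, mul_zero])) (?_ : _ * InvRing21.val g d = _)
  rw [hval, _root_.mul_assoc, h0]

/-- Some rational point is fixed by all rational points. -/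
theorem exists_point_fixed [ConnectedSpace G.left] [Group.IsSolvable (VecGrp.pt k k ⟶ G)] [IsProper X.hom]
    [Nonempty X.left] (a : AlgGrp.Action G X) :
    ∃ x : 𝟙_ (Over (Spec (CommRingCat.of k))) ⟶ X,
      ∀ γ : 𝟙_ (Over (Spec (CommRingCat.of k))) ⟶ G, γ ≫ a.orbitMap x = x := by
  obtain ⟨x, hx⟩ := exists_closed_orbit a
  refine ⟨x, ?_⟩
  -- the stabilizer and its reduction
  obtain ⟨Go, _, i, hi', hic, hsq⟩ := exists_stabilizer a x
  haveI := hi'
  haveI := hic
  haveI : IsAffine Go.left := isAffine_of_isAffineHom i.left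
  haveI : LocallyOfFiniteType Go.hom := by rw [← Over.w i]; infer_instance
  have hi : ∀ {T : Over (Spec (CommRingCat.of k))} (p : T ⟶ Go), (p ≫ i) ≫ a.orbitMap x = toUnit T ≫ x :=
    fun p => by rw [Category.assoc, hsq.w, ← Category.assoc, comp_toUnit]
  obtain ⟨H, _, r, hr', hrc, hrs, hHr, hHs⟩ := exists_reduced_subgroup Go
  haveI := hr'
  haveI := hrc
  haveI := hrs
  haveI := hHr
  haveI := hHs
  haveI : IsClosedImmersion (r ≫ i).left := inferInstanceAs (IsClosedImmersion (r.left ≫ i.left))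
  haveI : IsReduced (VecGrp.pt k k).left := inferInstanceAs (IsReduced (Spec (CommRingCat.of k)))
  -- the orbit
  obtain ⟨Y, b, y, f, hq, hfb, hyf, hfi⟩ := Groth.Agent.S8022.result k G X Go a x i hsq
  haveI := hfi
  obtain ⟨hlft, hflat, hsurj, -⟩ := id hq
  haveI := hlft
  haveI := hflat
  haveI := hsurj
  have horb : b.orbitMap y ≫ f = a.orbitMap x := by
    rw [AlgGrp.Action.orbitMap, Category.assoc, ← hfb, lift_whiskerLeft_assoc, Category.assoc, hyf]
    rfl
  have hrange : Set.range f.left = Set.range (a.orbitMap x).left := by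
    rw [← horb, Over.comp_left, Scheme.Hom.comp_base, TopCat.coe_comp, Set.range_comp,
      (b.orbitMap y).left.surjective.range_eq, Set.image_univ]
  haveI : IsClosedImmersion f.left := IsClosedImmersion.of_isPreimmersion _ (hrange ▸ hx)
  haveI : UniversallyClosed Y.hom := by
    rw [← Over.w f]
    infer_instance
  haveI : IsReduced G.left := OrbitTop19.isReduced_of_smooth G.hom
  haveI : IsReduced Y.left := H12.isReduced_of_flat_surjective (b.orbitMap y).left
  haveI : IrreducibleSpace G.left := AbRigid.irreducibleSpace_of_isAlgClosed G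
  haveI : IrreducibleSpace Y.left := by
    haveI : Nonempty Y.left := ⟨(b.orbitMap y).left (Classical.arbitrary G.left)⟩
    refine @IrreducibleSpace.mk _ _ ⟨?_⟩ ‹_›
    rw [← (b.orbitMap y).left.surjective.range_eq, ← Set.image_univ]
    exact (PreirreducibleSpace.isPreirreducible_univ).image _ (b.orbitMap y).left.continuous.continuousOn
  haveI : IsIntegral Y.left := isIntegral_of_irreducibleSpace_of_isReduced Y.left
  have hconst : ∀ ψ : Γ(G.left, ⊤), InvRing21.Semi (r ≫ i) 1 ψ →
      ∀ p q : VecGrp.pt k k ⟶ G, InvRing21.val p ψ = InvRing21.val q ψ := by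
    intro ψ hψ p q
    obtain ⟨N, hN, hinv⟩ := exists_pow_isRTransInv i ψ fun z t => by
      obtain ⟨t', rfl⟩ := PerfProd19.exists_lift_of_surjective r t
      have := hψ z t'
      rwa [Pi.one_apply, _root_.one_mul, ← Category.assoc] at this
    obtain ⟨F, hF⟩ := (InvRing21.IsQuotient.appTop_bijOn hq).2 _ hinv
    obtain ⟨c, hc⟩ := exists_eq_algebraMap Y F
    refine eq_of_pow_eq ψ hN c (fun z => ?_) p q
    rw [← map_pow, ← hF, ← hc, InvRing21.appTop_val, AlgHom.commutes, Algebra.algebraMap_self, RingHom.id_apply]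
  intro γ
  let j : VecGrp.pt k k ⟶ 𝟙_ (Over (Spec (CommRingCat.of k))) := toUnit _
  let j' := InvRing21.toPt (𝟙_ (Over (Spec (CommRingCat.of k))))
  obtain ⟨t, ht⟩ := forall_point_mem (r ≫ i) hconst (j ≫ γ)
  have h : γ = (j' ≫ t ≫ r) ≫ i := by
    rw [Category.assoc, Category.assoc, ht, ← Category.assoc, toUnit_unique (j' ≫ j) (𝟙 _), Category.id_comp]
  rw [h, hi, toUnit_unique (toUnit (𝟙_ (Over (Spec (CommRingCat.of k))))) (𝟙 _), Category.id_comp]

end Groth.Agent.BorelFix21
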