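import Groth.Agent.S3276
import Groth.Prelude.Def_AGF
import Groth.Prelude.Def_Red2

/-!
# Solvable connected subgroups conjugate into a subgroup with proper quotient
-/

set_option autoImplicit false
set_option linter.style.haveILetI false
set_option backward.isDefEq.respectTransparency.types false
universe u

open CategoryTheory MonoidalCategory CartesianMonoidalCategory MonObj AlgebraicGeometry

noncomputable section

namespace Groth.Agent.BorelFix21

/-- A closed immersion of a reduced noetherian scheme into itself is an isomorphism. -/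
theorem isIso_of_endo {X : Scheme.{u}} [IsReduced X] [TopologicalSpace.NoetherianSpace X] (φ : X ⟶ X)
    [IsClosedImmersion φ] : IsIso φ := by
  have hsurj : Function.Surjective φ := by
    let C : ℕ → TopologicalSpace.Closeds X := fun n =>
      ⟨Set.range (φ.base : X → X)^[n], (Topology.IsClosedEmbedding.isClosed_range (by
        induction n with
        | zero => exact Topology.IsClosedEmbedding.id
        | succ n ih => rw [Function.iterate_succ]; exact ih.comp φ.isClosedEmbedding))⟩
    obtain ⟨_, ⟨n, rfl⟩, hmin⟩ := (wellFounded_lt (α := TopologicalSpace.Closeds X)).has_min (Set.range C) ⟨_, 0, rfl⟩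
    have hle : C (n + 1) ≤ C n := by
      rintro _ ⟨y, rfl⟩
      exact ⟨φ.base y, (Function.iterate_succ_apply _ n y).symm⟩
    have heq : C (n + 1) = C n := hle.eq_of_not_lt (hmin _ ⟨n + 1, rfl⟩)
    have hinj : Function.Injective ((φ.base : X → X)^[n]) := φ.isClosedEmbedding.injective.iterate n
    intro z
    obtain ⟨y, hy⟩ := heq.ge (⟨z, rfl⟩ : (φ.base : X → X)^[n] z ∈ C n)
    rw [Function.iterate_succ_apply] at hy
    exact ⟨y, hinj hy⟩
  haveI : Surjective φ := ⟨hsurj⟩
  obtain ⟨l, hl⟩ := RedSepLib.exists_lift_of_range_subset (𝟙 X) φ fun x _ => hsurj x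
  exact ⟨l, by rw [← cancel_mono φ, Category.assoc, hl, Category.comp_id, Category.id_comp], hl⟩

variable {k : Type u} [Field k] [IsAlgClosed k]

/-- Solvable connected subgroups conjugate into a subgroup with proper homogeneous space. -/
theorem exists_conj {G H B : Over (Spec (CommRingCat.of k))} [GrpObj G] [GrpObj H] [GrpObj B] [IsAffine G.left]
    [Smooth G.hom] (iH : H ⟶ G) [IsClosedImmersion iH.left] (iB : B ⟶ G) [IsMonHom iB] [IsClosedImmersion iB.left]
    [Smooth B.hom] [ConnectedSpace B.left] (hs : Red.IsSolvableGrp B)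
    {X : Over (Spec (CommRingCat.of k))} {a : AlgGrp.Action G X}
    {o : 𝟙_ (Over (Spec (CommRingCat.of k))) ⟶ X} (hX : AGF.IsQuotient iH X a o) [IsProper X.hom] :
    ∃ (γ : 𝟙_ (Over (Spec (CommRingCat.of k))) ⟶ G) (h : B ⟶ H),
      h ≫ iH = (toUnit B ≫ γ)⁻¹ * iB * (toUnit B ≫ γ) ∧ IsClosedImmersion h.left := by
  haveI : IsAffine B.left := isAffine_of_isAffineHom iB.left
  haveI : Group.IsSolvable (𝟙_ (Over (Spec (CommRingCat.of k))) ⟶ B) :=
    (Group.isSolvable_def _).2 ⟨hs.choose, hs.choose_spec _⟩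
  haveI : Nonempty X.left := ⟨o.left (IsLocalRing.closedPoint k)⟩
  obtain ⟨x, hx⟩ := Groth.Agent.S3276.result k B X (a.restrict iB)
  obtain ⟨g, hg⟩ := InvRing21.IsQuotient.exists_lift hX x.left (Over.w x)
  let γ : 𝟙_ (Over (Spec (CommRingCat.of k))) ⟶ G := InvRing21.toPt _ ≫ g
  have hγ : γ ≫ a.orbitMap o = x := by
    rw [Category.assoc]
    refine Over.OverMorphism.ext ?_
    rw [Over.comp_left, Over.comp_left, hg]
    exact Category.id_comp _
  let cγ : B ⟶ G := toUnit B ≫ γ
  have hfix : cγ ≫ a.orbitMap o = (iB * cγ) ≫ a.orbitMap o := by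
    have h1 := hx B (𝟙 B)
    rw [AlgGrp.Action.lift_restrict_act, Category.id_comp] at h1
    have h2 : cγ ≫ a.orbitMap o = toUnit B ≫ x := by rw [Category.assoc, hγ]
    rw [h2]
    conv_lhs => rw [← h1, ← h2, AlgGrp.Action.comp_orbitMap, ← AlgGrpBasic19.act_mul, ← AlgGrp.Action.comp_orbitMap]
  obtain ⟨h, hh⟩ := (InvRing21.IsQuotient.comp_eq_iff hX cγ (iB * cγ)).1 hfix
  have hh' : h ≫ iH = cγ⁻¹ * iB * cγ := by rw [_root_.mul_assoc, hh, inv_mul_cancel_left]
  refine ⟨γ, h, hh', ?_⟩
  let c : G ⟶ G := (toUnit G ≫ γ)⁻¹ * 𝟙 G * (toUnit G ≫ γ)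
  let c' : G ⟶ G := (toUnit G ≫ γ) * 𝟙 G * (toUnit G ≫ γ)⁻¹
  have e1 : c ≫ c' = 𝟙 G := by
    simp only [c', MonObj.comp_mul, GrpObj.comp_inv, Category.comp_id, ← Category.assoc, comp_toUnit]
    simp only [c]
    group
  have e2 : c' ≫ c = 𝟙 G := by
    simp only [c, MonObj.comp_mul, GrpObj.comp_inv, Category.comp_id, ← Category.assoc, comp_toUnit]
    simp only [c']
    group
  haveI : IsIso c := ⟨c', e1, e2⟩
  haveI : IsIso c.left := inferInstanceAs (IsIso ((Over.forget _).map c))
  have hc : h ≫ iH = iB ≫ c := by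
    rw [hh']
    simp only [c, MonObj.comp_mul, GrpObj.comp_inv, Category.comp_id, ← Category.assoc, comp_toUnit]
    rfl
  haveI : IsClosedImmersion (h.left ≫ iH.left) := by
    rw [← Over.comp_left, hc, Over.comp_left]; infer_instance
  exact IsClosedImmersion.of_comp h.left iH.left

/-- A solvable connected subgroup with proper homogeneous space is maximal. -/
theorem isIso_of_le {G H B : Over (Spec (CommRingCat.of k))} [GrpObj G] [GrpObj H] [GrpObj B] [IsAffine G.left]
    [Smooth G.hom] (iH : H ⟶ G) [IsClosedImmersion iH.left] [Smooth H.hom] (iB : B ⟶ G) [IsMonHom iB]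
    [IsClosedImmersion iB.left] [Smooth B.hom] [ConnectedSpace B.left] (hs : Red.IsSolvableGrp B)
    {X : Over (Spec (CommRingCat.of k))} {a : AlgGrp.Action G X}
    {o : 𝟙_ (Over (Spec (CommRingCat.of k))) ⟶ X} (hX : AGF.IsQuotient iH X a o) [IsProper X.hom]
    (f : H ⟶ B) (hf : f ≫ iB = iH) : IsIso f := by
  obtain ⟨γ, h, -, hh⟩ := exists_conj iH iB hs hX
  haveI := hh
  haveI : IsClosedImmersion (f.left ≫ iB.left) := by rw [← Over.comp_left, hf]; infer_instance
  haveI : IsClosedImmersion f.left := IsClosedImmersion.of_comp f.left iB.left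
  haveI : IsAffine H.left := isAffine_of_isAffineHom iH.left
  haveI : IsReduced H.left := OrbitTop19.isReduced_of_smooth H.hom
  haveI : IsLocallyNoetherian H.left := LocallyOfFiniteType.isLocallyNoetherian H.hom
  haveI : IsNoetherian H.left := ⟨⟩
  haveI : IsClosedImmersion (f ≫ h).left := inferInstanceAs (IsClosedImmersion (f.left ≫ h.left))
  haveI := isIso_of_endo (f ≫ h).left
  haveI : Mono h := Over.mono_of_mono_left h
  haveI : IsIso (f ≫ h) := by
    haveI : IsIso ((Over.forget _).map (f ≫ h)) := inferInstanceAs (IsIso (f ≫ h).left)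
    exact isIso_of_reflects_iso _ (Over.forget _)
  haveI : IsSplitEpi h := IsSplitEpi.mk' ⟨inv (f ≫ h) ≫ f, by rw [Category.assoc, IsIso.inv_hom_id]⟩
  haveI : IsIso h := isIso_of_mono_of_isSplitEpi h
  exact IsIso.of_isIso_comp_right f h

end Groth.Agent.BorelFix21
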