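import Groth.Agent.Lib.BorelFix21.BorelConj
import Groth.Agent.Lib.GrpImage19.Basic
import Mathlib.AlgebraicGeometry.Geometrically.Irreducible

/-!
# Borel subgroups: existence, products with normalising subgroups, solvable extensions
-/

set_option autoImplicit false
set_option linter.style.haveILetI false
set_option backward.isDefEq.respectTransparency.types false
universe u

open CategoryTheory MonoidalCategory CartesianMonoidalCategory MonObj AlgebraicGeometry

noncomputable section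

namespace Groth.Agent.BorelFix21

variable {k : Type u} [Field k]

/-- Solvability of extensions. -/
theorem isSolvableGrp_of_ker {W Q N G : Over (Spec (CommRingCat.of k))} [GrpObj W] [GrpObj Q] [GrpObj N] [GrpObj G]
    (q : W ⟶ Q) [IsMonHom q] (j : W ⟶ G) [IsMonHom j] (i : N ⟶ G) [IsMonHom i] [Mono i]
    (hQ : Red.IsSolvableGrp Q) (hN : Red.IsSolvableGrp N)
    (hker : ∀ (T : Over (Spec (CommRingCat.of k))) (g : T ⟶ W), g ≫ q = 1 → ∃ b : T ⟶ N, b ≫ i = g ≫ j)
    (hinj : ∀ (T : Over (Spec (CommRingCat.of k))) (g : T ⟶ W), g ≫ q = 1 → g ≫ j = 1 → g = 1) :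
    Red.IsSolvableGrp W := by
  obtain ⟨n, hn⟩ := hQ
  obtain ⟨m, hm⟩ := hN
  refine ⟨n + m, fun T => ?_⟩
  let F : (T ⟶ W) →* (T ⟶ Q) := MonoidHom.mk' (fun g => g ≫ q) (fun a b => MonObj.mul_comp a b q)
  let J : (T ⟶ W) →* (T ⟶ G) := MonoidHom.mk' (fun g => g ≫ j) (fun a b => MonObj.mul_comp a b j)
  let I : (T ⟶ N) →* (T ⟶ G) := MonoidHom.mk' (fun g => g ≫ i) (fun a b => MonObj.mul_comp a b i)
  have h0 : ∀ x ∈ derivedSeries (T ⟶ W) n, x ≫ q = 1 := fun x hx => by
    have h := map_derivedSeries_le_derivedSeries F n (Subgroup.mem_map_of_mem F hx)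
    rwa [hn T, Subgroup.mem_bot] at h
  have h1 : ∀ l, (derivedSeries (T ⟶ W) (n + l)).map J ≤ (derivedSeries (T ⟶ N) l).map I := by
    intro l
    induction l with
    | zero =>
      rintro _ ⟨x, hx, rfl⟩
      obtain ⟨b, hb⟩ := hker T x (h0 x hx)
      exact ⟨b, Subgroup.mem_top _, hb⟩
    | succ l ih =>
      rw [← Nat.add_assoc, derivedSeries_succ, derivedSeries_succ, Subgroup.map_commutator, Subgroup.map_commutator]
      exact Subgroup.commutator_mono ih ih
  refine (Subgroup.eq_bot_iff_forall _).2 fun x hx => ?_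
  have hq : x ≫ q = 1 := h0 x (derivedSeries_antitone (T ⟶ W) (Nat.le_add_right n m) hx)
  refine hinj T x hq ?_
  obtain ⟨b, hb, hbe⟩ := h1 m (Subgroup.mem_map_of_mem J hx)
  rw [hm T] at hb
  obtain rfl : b = 1 := Subgroup.mem_bot.1 hb
  exact hbe.symm.trans (map_one I)

/-- Solvability passes along an isomorphism. -/
theorem isSolvableGrp_of_isIso {B G : Over (Spec (CommRingCat.of k))} [GrpObj B] [GrpObj G] (i : B ⟶ G) [IsMonHom i]
    [IsIso i] (hB : Red.IsSolvableGrp B) : Red.IsSolvableGrp G := by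
  obtain ⟨n, hn⟩ := hB
  refine ⟨n, fun T => ?_⟩
  let I : (T ⟶ B) →* (T ⟶ G) := MonoidHom.mk' (fun g => g ≫ i) (fun a b => MonObj.mul_comp a b i)
  rw [← map_derivedSeries_eq (f := I) (fun g => ⟨g ≫ inv i, show (g ≫ inv i) ≫ i = g by simp⟩) n, hn T,
    Subgroup.map_bot]

/-- In a solvable group every Borel subgroup is everything. -/
theorem isIso_borel_of_isSolvable {B G : Over (Spec (CommRingCat.of k))} [GrpObj B] [GrpObj G] [Smooth G.hom]
    [ConnectedSpace G.left] (i : B ⟶ G) (hi : Red.IsBorelOver k i) (hG : Red.IsSolvableGrp G) : IsIso i := by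
  obtain ⟨_, _, _, _, _, hmax⟩ := hi
  exact hmax G (𝟙 G) i (inferInstanceAs (IsClosedImmersion (𝟙 G.left))) inferInstance inferInstance hG
    (Category.comp_id i)

variable [IsAlgClosed k]

/-- A connected smooth group has a Borel subgroup absorbing every solvable connected subgroup up to conjugation. -/
theorem exists_isBorelOver (G : Over (Spec (CommRingCat.of k))) [GrpObj G] [IsAffine G.left] [Smooth G.hom]
    [ConnectedSpace G.left] :
    ∃ (B₀ : Over (Spec (CommRingCat.of k))) (_ : GrpObj B₀) (b : B₀ ⟶ G), Red.IsBorelOver k b ∧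
      ∀ (B : Over (Spec (CommRingCat.of k))) [GrpObj B] (iB : B ⟶ G) [IsMonHom iB] [IsClosedImmersion iB.left]
        [Smooth B.hom] [ConnectedSpace B.left], Red.IsSolvableGrp B →
          ∃ (gam : 𝟙_ (Over (Spec (CommRingCat.of k))) ⟶ G) (h : B ⟶ B₀),
            h ≫ b = (toUnit B ≫ gam)⁻¹ * iB * (toUnit B ≫ gam) := by
  haveI : IsClosedImmersion (𝟙 G : G ⟶ G).left := inferInstanceAs (IsClosedImmersion (𝟙 G.left))
  obtain ⟨B₀, _, b, hb, hbc, hbs, hbn, hsol, hall⟩ := exists_borel G G (𝟙 G)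
  haveI := hb
  haveI := hbc
  haveI := hbs
  haveI := hbn
  refine ⟨B₀, inferInstance, b, ⟨hb, hbc, hbs, hbn, hsol, ?_⟩, hall⟩
  intro B' _ i' _ f hi' hs' hn' hsol' hf
  haveI := hi'
  haveI := hs'
  haveI := hn'
  obtain ⟨gam, h, hh⟩ := hall B' i' hsol'
  haveI : IsAffine B₀.left := isAffine_of_isAffineHom b.left
  haveI : IsReduced B₀.left := OrbitTop19.isReduced_of_smooth B₀.hom
  haveI : IsLocallyNoetherian B₀.left := LocallyOfFiniteType.isLocallyNoetherian B₀.hom
  haveI : IsNoetherian B₀.left := ⟨⟩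
  have he : (f ≫ h) ≫ b = (toUnit B₀ ≫ gam)⁻¹ * b * (toUnit B₀ ≫ gam) := by
    rw [Category.assoc, hh, MonObj.comp_mul, MonObj.comp_mul, GrpObj.comp_inv, hf, ← Category.assoc, comp_toUnit]
  haveI := isClosedImmersion_conj b gam
  haveI : IsClosedImmersion ((f ≫ h).left ≫ b.left) := by rw [← Over.comp_left, he]; infer_instance
  haveI : IsClosedImmersion (f ≫ h).left := IsClosedImmersion.of_comp (f ≫ h).left b.left
  haveI : IsIso ((Over.forget _).map (f ≫ h)) := isIso_of_endo (f ≫ h).left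
  haveI : IsIso (f ≫ h) := isIso_of_reflects_iso _ (Over.forget _)
  haveI hconj := isClosedImmersion_conj i' gam
  haveI : IsClosedImmersion (h.left ≫ b.left) := by rw [← Over.comp_left, hh]; infer_instance
  haveI : IsClosedImmersion h.left := IsClosedImmersion.of_comp h.left b.left
  haveI : Mono h := Over.mono_of_mono_left h
  haveI : IsSplitEpi h := IsSplitEpi.mk' ⟨inv (f ≫ h) ≫ f, by simp⟩
  haveI : IsIso h := isIso_of_mono_of_isSplitEpi h
  exact IsIso.of_isIso_comp_right f h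

/-- Conjugates of Borel subgroups are Borel subgroups. -/
theorem isBorelOver_conj {B G : Over (Spec (CommRingCat.of k))} [GrpObj B] [GrpObj G] (b : B ⟶ G)
    (hb : Red.IsBorelOver k b) (g : 𝟙_ (Over (Spec (CommRingCat.of k))) ⟶ G) :
    Red.IsBorelOver k ((toUnit B ≫ g)⁻¹ * b * (toUnit B ≫ g)) := by
  obtain ⟨hm, hc, hs, hn, hsol, hmax⟩ := id hb
  haveI := hm
  haveI := hc
  haveI := hs
  haveI := hn
  refine ⟨isMonHom_conj b g, isClosedImmersion_conj b g, hs, hn, hsol, ?_⟩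
  intro B' _ i' _ f hi' hs' hn' hsol' hf
  haveI := hi'
  haveI := hs'
  haveI := hn'
  exact exists_iso_conj i' hsol' b hb g f hf

/-- Every solvable connected subgroup lies in a Borel subgroup. -/
theorem exists_le_borel {G : Over (Spec (CommRingCat.of k))} [GrpObj G] [IsAffine G.left] [Smooth G.hom]
    [ConnectedSpace G.left] {H : Over (Spec (CommRingCat.of k))} [GrpObj H] (iH : H ⟶ G) [IsMonHom iH]
    [IsClosedImmersion iH.left] [Smooth H.hom] [ConnectedSpace H.left] (hH : Red.IsSolvableGrp H) :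
    ∃ (B : Over (Spec (CommRingCat.of k))) (_ : GrpObj B) (iB : B ⟶ G) (f : H ⟶ B),
      Red.IsBorelOver k iB ∧ f ≫ iB = iH := by
  obtain ⟨B, _, b, hb, hall⟩ := exists_isBorelOver G
  obtain ⟨gam, h, hh⟩ := hall H iH hH
  refine ⟨B, inferInstance, _, h, isBorelOver_conj b hb gam⁻¹, ?_⟩
  rw [MonObj.comp_mul, MonObj.comp_mul, GrpObj.comp_inv, hh, ← Category.assoc, comp_toUnit, GrpObj.comp_inv,
    inv_inv]
  group

/-- Rational points lift along surjective morphisms. -/
theorem exists_pt_lift {W H : Over (Spec (CommRingCat.of k))} [LocallyOfFiniteType W.hom] [LocallyOfFiniteType H.hom]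
    (g : W ⟶ H) [Surjective g.left] (y : VecGrp.pt k k ⟶ H) : ∃ x : VecGrp.pt k k ⟶ W, x ≫ g = y := by
  have hpt : (VecGrp.pt k k).hom = 𝟙 (Spec (CommRingCat.of k)) := by
    show Spec.map (CommRingCat.ofHom (algebraMap k k)) = 𝟙 _
    rw [show CommRingCat.ofHom (algebraMap k k) = 𝟙 _ from rfl, Spec.map_id]
  have hy : y.left ≫ H.hom = 𝟙 _ := (Over.w y).trans hpt
  haveI := isClosedImmersion_of_comp_eq_id H.hom y.left hy
  have hcl : IsClosed ({InvRing21.img y} : Set H.left) := by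
    have h : Set.range y.left = {InvRing21.img y} := Set.ext fun z =>
      ⟨fun ⟨w, hw⟩ => hw ▸ congrArg y.left (Subsingleton.elim (α := Spec (CommRingCat.of k)) w _),
        fun hz => ⟨IsLocalRing.closedPoint k, hz.symm⟩⟩
    exact h ▸ y.left.isClosedEmbedding.isClosed_range
  obtain ⟨w, hw⟩ := g.left.surjective (InvRing21.img y)
  obtain ⟨x, hx⟩ := exists_pt_mem (hcl.preimage g.left.continuous).isLocallyClosed ⟨w, hw⟩
  exact ⟨x, Over.OverMorphism.ext (ext_of_apply_closedPoint_eq H.hom ((Over.w (x ≫ g)).trans hpt) hy hx)⟩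

set_option maxHeartbeats 1600000 in
/-- A connected solvable subgroup normalised by another generates with it a connected solvable subgroup. -/
theorem exists_product {G B C : Over (Spec (CommRingCat.of k))} [GrpObj G] [IsAffine G.left] [Smooth G.hom]
    [GrpObj B] [GrpObj C] (iB : B ⟶ G) [IsMonHom iB] [IsClosedImmersion iB.left] [Smooth B.hom]
    [ConnectedSpace B.left] (hB : Red.IsSolvableGrp B) (iC : C ⟶ G) [IsMonHom iC] [IsClosedImmersion iC.left]
    [Smooth C.hom] [ConnectedSpace C.left] (hC : Red.IsSolvableGrp C)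
    (hn : ∀ (T : Over (Spec (CommRingCat.of k))) (g : T ⟶ C) (h : T ⟶ B),
      ∃ h' : T ⟶ B, h' ≫ iB = (g ≫ iC) * (h ≫ iB) * (g ≫ iC)⁻¹) :
    ∃ (H : Over (Spec (CommRingCat.of k))) (_ : GrpObj H) (iH : H ⟶ G) (fB : B ⟶ H) (fC : C ⟶ H),
      IsMonHom iH ∧ IsClosedImmersion iH.left ∧ Smooth H.hom ∧ ConnectedSpace H.left ∧ Red.IsSolvableGrp H ∧
        fB ≫ iH = iB ∧ fC ≫ iH = iC := by
  haveI : Mono iB := Over.mono_of_mono_left iB
  haveI : IsAffine B.left := isAffine_of_isAffineHom iB.left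
  haveI : IsAffine C.left := isAffine_of_isAffineHom iC.left
  -- the scheme underlying the semidirect product
  obtain ⟨W, wB, wC, hW₁, hW₂, hWs, hWc, hWa⟩ : ∃ (W : Over (Spec (CommRingCat.of k))) (wB : W ⟶ B) (wC : W ⟶ C),
      (∀ (T : Over (Spec (CommRingCat.of k))) (p : T ⟶ B) (q : T ⟶ C), ∃ l : T ⟶ W, l ≫ wB = p ∧ l ≫ wC = q) ∧
      (∀ (T : Over (Spec (CommRingCat.of k))) (l l' : T ⟶ W), l ≫ wB = l' ≫ wB → l ≫ wC = l' ≫ wC → l = l') ∧
      Smooth W.hom ∧ ConnectedSpace W.left ∧ IsAffine W.left := by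
    refine ⟨B ⊗ C, fst B C, snd B C, fun T p q => ⟨lift p q, lift_fst p q, lift_snd p q⟩,
      fun T l l' h h' => CartesianMonoidalCategory.hom_ext _ _ h h',
      inferInstanceAs (Smooth (Limits.pullback.fst B.hom C.hom ≫ B.hom)), ?_,
      inferInstanceAs (IsAffine (Limits.pullback B.hom C.hom))⟩
    haveI := AbRigid.irreducibleSpace_of_isAlgClosed B
    haveI := AbRigid.geometricallyIrreducible_of_connected C
    haveI : IrreducibleSpace ↥(Limits.pullback B.hom C.hom) := inferInstance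
    exact inferInstanceAs (ConnectedSpace ↥(Limits.pullback B.hom C.hom))
  haveI := hWs
  haveI := hWc
  haveI := hWa
  let m : W ⟶ G ⊗ C := lift ((wB ≫ iB) * (wC ≫ iC)) wC
  have hm₁ : m ≫ fst G C = (wB ≫ iB) * (wC ≫ iC) := lift_fst _ _
  have hm₂ : m ≫ snd G C = wC := lift_snd _ _
  haveI : Mono m := ⟨fun {T} p q h => by
    have h2 : p ≫ wC = q ≫ wC := by
      rw [← hm₂, ← Category.assoc, h, Category.assoc]
    have h1 : p ≫ wB = q ≫ wB := by
      have e : p ≫ m ≫ fst G C = q ≫ m ≫ fst G C := by rw [← Category.assoc, h, Category.assoc]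
      rw [hm₁, MonObj.comp_mul, MonObj.comp_mul, ← Category.assoc p wC, ← Category.assoc q wC, h2] at e
      rw [← cancel_mono iB, Category.assoc, Category.assoc]
      exact mul_right_cancel e
    exact hW₂ T p q h1 h2⟩
  have hm : ∀ {T : Over (Spec (CommRingCat.of k))} (l : T ⟶ W),
      l ≫ m = lift ((l ≫ wB ≫ iB) * (l ≫ wC ≫ iC)) (l ≫ wC) := fun l => by
    show l ≫ lift _ _ = _
    rw [comp_lift, MonObj.comp_mul]
  have hlift : ∀ {T : Over (Spec (CommRingCat.of k))} (a c : T ⟶ G) (b d : T ⟶ C),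
      lift a b * lift c d = lift (a * c) (b * d) := fun a c b d => by
    refine CartesianMonoidalCategory.hom_ext _ _ ?_ ?_ <;> simp [MonObj.mul_comp]
  have hliftInv : ∀ {T : Over (Spec (CommRingCat.of k))} (a : T ⟶ G) (b : T ⟶ C),
      (lift a b)⁻¹ = lift a⁻¹ b⁻¹ := fun a b => by
    refine CartesianMonoidalCategory.hom_ext _ _ ?_ ?_ <;> simp [GrpObj.inv_comp]
  obtain ⟨e, he₁, he₂⟩ := hW₁ _ η[B] η[C]
  have he : e ≫ m = η[G ⊗ C] := by
    rw [hm, ← Category.assoc, ← Category.assoc, he₁, he₂, IsMonHom.one_hom, IsMonHom.one_hom]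
    refine CartesianMonoidalCategory.hom_ext _ _ ?_ ?_
    · rw [lift_fst, IsMonHom.one_hom (fst G C), MonObj.one_eq_one]
      exact _root_.mul_one (1 : 𝟙_ (Over (Spec (CommRingCat.of k))) ⟶ G)
    · rw [lift_snd, IsMonHom.one_hom (snd G C)]
  obtain ⟨c, hc⟩ := hn _ (fst W W ≫ wC) (snd W W ≫ wB)
  obtain ⟨mW, hmW₁, hmW₂⟩ := hW₁ _ ((fst W W ≫ wB) * c) ((fst W W ≫ wC) * (snd W W ≫ wC))
  have hmul : mW ≫ m = (m ⊗ₘ m) ≫ μ[G ⊗ C] := by
    have h : (m ⊗ₘ m) ≫ μ[G ⊗ C] = (fst W W ≫ m) * (snd W W ≫ m) := by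
      rw [Hom.mul_def]
      congr 1
    rw [h, hm, hm, hm, ← Category.assoc mW, ← Category.assoc mW, hmW₁, hmW₂, hlift, MonObj.mul_comp,
      MonObj.mul_comp, hc]
    simp only [Category.assoc]
    congr 1
    group
  obtain ⟨c', hc'⟩ := hn _ wC⁻¹ wB⁻¹
  obtain ⟨vW, hvW₁, hvW₂⟩ := hW₁ _ c' wC⁻¹
  have hinv : vW ≫ m = m ≫ ι[G ⊗ C] := by
    rw [← Hom.inv_def, hm, ← Category.assoc, ← Category.assoc, hvW₁, hvW₂, hliftInv, hc', GrpObj.inv_comp,
      GrpObj.inv_comp]
    congr 1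
    group
  letI : GrpObj W := AbRigid.grpObjOfMono m e he mW hmul vW hinv
  haveI : IsMonHom m := ⟨he, hmul⟩
  let f : W ⟶ G := m ≫ fst G C
  have hW : Red.IsSolvableGrp W := by
    refine isSolvableGrp_of_ker (m ≫ snd G C) f iB hC hB (fun T g hg => ⟨g ≫ wB, ?_⟩) fun T g hg hg' => ?_
    · rw [hm₂] at hg
      show _ = g ≫ m ≫ fst G C
      rw [hm₁, MonObj.comp_mul, ← Category.assoc g wC, hg, MonObj.one_comp, Category.assoc]
      exact (_root_.mul_one (g ≫ wB ≫ iB)).symm
    · rw [← cancel_mono m, MonObj.one_comp]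
      refine CartesianMonoidalCategory.hom_ext _ _ ?_ ?_
      · rw [MonObj.one_comp, Category.assoc]
        exact hg'
      · rw [MonObj.one_comp, Category.assoc]
        exact hg
  haveI : QuasiCompact f.left := inferInstance
  let Z : Over (Spec (CommRingCat.of k)) := Over.mk (f.left.imageι ≫ G.hom)
  let i : Z ⟶ G := Over.homMk f.left.imageι rfl
  let g : W ⟶ Z := Over.homMk f.left.toImage (by
    show f.left.toImage ≫ f.left.imageι ≫ G.hom = W.hom
    rw [Scheme.Hom.toImage_imageι_assoc, Over.w])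
  have hgi : g ≫ i = f := Over.OverMorphism.ext f.left.toImage_imageι
  haveI : IsClosedImmersion i.left := inferInstanceAs (IsClosedImmersion f.left.imageι)
  haveI : IsSchemeTheoreticallyDominant g.left := AbRigid.isSchemeTheoreticallyDominant_toImage f.left
  obtain ⟨hZ, hi, hg⟩ := GrpImage19.exists_grpObj f i g hgi
  haveI := GrpImage19.surjective f i g hgi
  haveI := hi
  haveI := hg
  haveI : LocallyOfFiniteType Z.hom := by rw [← Over.w i]; infer_instance
  obtain ⟨H, _, r, hr, hrc, hrs, hHr, hHs⟩ := exists_reduced_subgroup Z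
  haveI := hr
  haveI := hrc
  haveI := hrs
  haveI := hHr
  haveI := hHs
  haveI : IsReduced W.left := OrbitTop19.isReduced_of_smooth W.hom
  obtain ⟨g', hg'⟩ := PerfProd19.exists_lift_of_surjective r g
  haveI : Mono r := Over.mono_of_mono_left r
  haveI : IsMonHom g' := isMonHom_of_comp r g' (hg' ▸ inferInstance)
  haveI : Surjective g'.left := ⟨fun h => by
    obtain ⟨w, hw⟩ := g.left.surjective (r.left h)
    exact ⟨w, r.left.isClosedEmbedding.injective ((OrbitTop19.apply_comp_left g' r g hg' w).trans hw)⟩⟩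
  haveI : IsClosedImmersion (r ≫ i).left := inferInstanceAs (IsClosedImmersion (r.left ≫ i.left))
  haveI : IsAffine H.left := isAffine_of_isAffineHom (r ≫ i).left
  haveI : ConnectedSpace H.left := g'.left.surjective.connectedSpace g'.left.continuous
  have hfac : ∀ {T : Over (Spec (CommRingCat.of k))} (l : T ⟶ W),
      (l ≫ g') ≫ r ≫ i = (l ≫ wB ≫ iB) * (l ≫ wC ≫ iC) := fun l => by
    rw [Category.assoc, reassoc_of% hg', hgi]
    show l ≫ m ≫ fst G C = _
    rw [hm₁, MonObj.comp_mul]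
  obtain ⟨lB, hlB₁, hlB₂⟩ := hW₁ B (𝟙 B) 1
  obtain ⟨lC, hlC₁, hlC₂⟩ := hW₁ C 1 (𝟙 C)
  refine ⟨H, inferInstance, r ≫ i, lB ≫ g', lC ≫ g', inferInstance, inferInstance, inferInstance, inferInstance,
    ?_, ?_, ?_⟩
  · obtain ⟨n, hn'⟩ := hW
    refine isSolvableGrp_of_points ((Group.isSolvable_def _).2 ⟨n, ?_⟩)
    let F : (VecGrp.pt k k ⟶ W) →* (VecGrp.pt k k ⟶ H) :=
      MonoidHom.mk' (fun x => x ≫ g') (fun x y => MonObj.mul_comp x y g')
    rw [← map_derivedSeries_eq (f := F) (fun y => exists_pt_lift g' y) n, hn', Subgroup.map_bot]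
  · rw [hfac, reassoc_of% hlB₁, ← Category.assoc lB wC, hlB₂, MonObj.one_comp]
    exact _root_.mul_one iB
  · rw [hfac, reassoc_of% hlC₂, ← Category.assoc lC wB, hlC₁, MonObj.one_comp]
    exact _root_.one_mul iC

end Groth.Agent.BorelFix21
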