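import Groth.Agent.Lib.BorelFix21.Borel
import Groth.Prelude.Def_AGF

/-!
# Borel subgroups are conjugate
-/

set_option autoImplicit false
set_option linter.style.haveILetI false
set_option backward.isDefEq.respectTransparency.types false
universe u

open CategoryTheory MonoidalCategory CartesianMonoidalCategory MonObj AlgebraicGeometry

noncomputable section

namespace Groth.Agent.BorelFix21

variable {k : Type u} [Field k]

theorem isClosedImmersion_conj {G B : Over (Spec (CommRingCat.of k))} [GrpObj G] (i : B ⟶ G)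
    [IsClosedImmersion i.left] (g : 𝟙_ (Over (Spec (CommRingCat.of k))) ⟶ G) :
    IsClosedImmersion ((toUnit B ≫ g)⁻¹ * i * (toUnit B ≫ g)).left := by
  let c : G ⟶ G := (toUnit G ≫ g)⁻¹ * 𝟙 G * (toUnit G ≫ g)
  let c' : G ⟶ G := (toUnit G ≫ g) * 𝟙 G * (toUnit G ≫ g)⁻¹
  have e1 : c ≫ c' = 𝟙 G := by
    simp only [c', MonObj.comp_mul, GrpObj.comp_inv, Category.comp_id, ← Category.assoc, comp_toUnit]
    simp only [c]
    group
  have e2 : c' ≫ c = 𝟙 G := by
    simp only [c, MonObj.comp_mul, GrpObj.comp_inv, Category.comp_id, ← Category.assoc, comp_toUnit]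
    simp only [c']
    group
  haveI : IsIso c := ⟨c', e1, e2⟩
  haveI : IsIso c.left := inferInstanceAs (IsIso ((Over.forget _).map c))
  have hc : (toUnit B ≫ g)⁻¹ * i * (toUnit B ≫ g) = i ≫ c := by
    simp only [c, MonObj.comp_mul, GrpObj.comp_inv, Category.comp_id, ← Category.assoc, comp_toUnit]
  rw [hc, Over.comp_left]
  infer_instance

variable [IsAlgClosed k]

/-- A Borel subgroup is conjugate to any subgroup absorbing all solvable connected subgroups. -/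
theorem exists_iso_conj {G B₀ B : Over (Spec (CommRingCat.of k))} [GrpObj G] [GrpObj B₀] [GrpObj B] (b : B₀ ⟶ G)
    [IsMonHom b] [IsClosedImmersion b.left] [Smooth B₀.hom] [ConnectedSpace B₀.left] (hs : Red.IsSolvableGrp B₀)
    (iB : B ⟶ G) (hB : Red.IsBorelOver k iB) (g : 𝟙_ (Over (Spec (CommRingCat.of k))) ⟶ G) (h : B ⟶ B₀)
    (hh : h ≫ b = (toUnit B ≫ g)⁻¹ * iB * (toUnit B ≫ g)) : IsIso h := by
  obtain ⟨_, _, _, _, _, hmax⟩ := hB
  haveI := isMonHom_conj b g⁻¹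
  have hi' : IsClosedImmersion ((toUnit B₀ ≫ g⁻¹)⁻¹ * b * (toUnit B₀ ≫ g⁻¹)).left :=
    isClosedImmersion_conj b g⁻¹
  refine hmax B₀ ((toUnit B₀ ≫ g⁻¹)⁻¹ * b * (toUnit B₀ ≫ g⁻¹)) h hi' inferInstance inferInstance hs ?_
  rw [MonObj.comp_mul, MonObj.comp_mul, GrpObj.comp_inv, hh, ← Category.assoc, comp_toUnit, GrpObj.comp_inv,
    inv_inv]
  group

/-- Borel subgroups are conjugate. -/
theorem exists_conjBy {G B B' : Over (Spec (CommRingCat.of k))} [GrpObj G] [GrpObj B] [GrpObj B'] [IsAffine G.left]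
    [Smooth G.hom] [ConnectedSpace G.left] (iB : B ⟶ G) (iB' : B' ⟶ G) (hB : Red.IsBorelOver k iB)
    (hB' : Red.IsBorelOver k iB') :
    ∃ (g : 𝟙_ (Over (Spec (CommRingCat.of k))) ⟶ G) (f : B ≅ B'), f.hom ≫ iB' = AGF.conjBy g iB := by
  haveI : IsClosedImmersion (𝟙 G : G ⟶ G).left := inferInstanceAs (IsClosedImmersion (𝟙 G.left))
  obtain ⟨B₀, _, b, hb, hbc, hbs, hbn, hsol, hall⟩ := exists_borel G G (𝟙 G)
  haveI := hb
  haveI := hbc
  haveI := hbs
  haveI := hbn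
  obtain ⟨hm, hc, hsm, hcn, hso, -⟩ := id hB
  obtain ⟨hm', hc', hsm', hcn', hso', -⟩ := id hB'
  haveI := hm
  haveI := hc
  haveI := hsm
  haveI := hcn
  haveI := hm'
  haveI := hc'
  haveI := hsm'
  haveI := hcn'
  obtain ⟨g, h, hh⟩ := hall B iB hso
  obtain ⟨g', h', hh'⟩ := hall B' iB' hso'
  haveI := exists_iso_conj b hsol iB hB g h hh
  haveI := exists_iso_conj b hsol iB' hB' g' h' hh'
  refine ⟨g' * g⁻¹, asIso h ≪≫ (asIso h').symm, ?_⟩
  have hh'' : iB' = (toUnit B' ≫ g') * (h' ≫ b) * (toUnit B' ≫ g')⁻¹ := by rw [hh']; group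
  show (h ≫ inv h') ≫ iB' = (toUnit B ≫ (g' * g⁻¹)) * iB * (toUnit B ≫ (g' * g⁻¹))⁻¹
  rw [hh'', MonObj.comp_mul, MonObj.comp_mul, GrpObj.comp_inv, ← Category.assoc, comp_toUnit, Category.assoc h,
    IsIso.inv_hom_id_assoc, hh, MonObj.comp_mul (toUnit B) g' g⁻¹, GrpObj.comp_inv]
  group

end Groth.Agent.BorelFix21
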