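import Groth.Prelude.Def_AGF
import Groth.Prelude.Def_ChGrp
import Groth.Agent.Lib.Desc.Over
import Groth.Agent.Lib.InvRing21.Quot
import Groth.Agent.Lib.FpqcDesc.Basic
import Groth.Agent.Lib.TorsorSch25.Transfer
import Mathlib.AlgebraicGeometry.Morphisms.LocalFlatDescent

/-!
# The map G/H ⟶ G/H' for H ⊆ H' is a twisted form of the projection G ⊗ H'/H ⟶ G
-/

set_option autoImplicit false
set_option linter.style.haveILetI false
set_option backward.isDefEq.respectTransparency.types false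
universe u

open CategoryTheory MonoidalCategory CartesianMonoidalCategory MonObj AlgebraicGeometry

noncomputable section

namespace Groth.Agent.BorelFix21

variable {k : Type u} [Field k] {G H H' : Over (Spec (CommRingCat.of k))} [GrpObj G] [GrpObj H] [GrpObj H']
    [LocallyOfFiniteType G.hom] [LocallyOfFiniteType H'.hom]
    {i : H ⟶ G} {i' : H' ⟶ G} {l : H ⟶ H'}
    {X : Over (Spec (CommRingCat.of k))} {a : AlgGrp.Action G X} {o : 𝟙_ (Over (Spec (CommRingCat.of k))) ⟶ X}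
    {X' : Over (Spec (CommRingCat.of k))} {a' : AlgGrp.Action G X'} {o' : 𝟙_ (Over (Spec (CommRingCat.of k))) ⟶ X'}
    {Y : Over (Spec (CommRingCat.of k))} {b : AlgGrp.Action H' Y} {y : 𝟙_ (Over (Spec (CommRingCat.of k))) ⟶ Y}
    {qbar : X ⟶ X'}

theorem mul_comp_whisker {A B : Over (Spec (CommRingCat.of k))} [GrpObj A] [GrpObj B] (f : B ⟶ A)
    {T : Over (Spec (CommRingCat.of k))} (g : T ⟶ A) (h : T ⟶ B) :
    lift g h ≫ (A ◁ f) ≫ μ[A] = g * (h ≫ f) := by
  rw [lift_whiskerLeft_assoc, Hom.mul_def]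

theorem orbit_eq_iff {A B X : Over (Spec (CommRingCat.of k))} [GrpObj A] [GrpObj B] {i : B ⟶ A}
    {a : AlgGrp.Action A X} {o : 𝟙_ (Over (Spec (CommRingCat.of k))) ⟶ X} (hX : AGF.IsQuotient i X a o)
    {T : Over (Spec (CommRingCat.of k))} (g g' : T ⟶ A) :
    g ≫ a.orbitMap o = g' ≫ a.orbitMap o ↔ ∃ h : T ⟶ B, g' = g * (h ≫ i) := by
  obtain ⟨_, _, _, hpb⟩ := hX
  constructor
  · intro e
    obtain ⟨t, ht1, ht2⟩ := hpb.exists_lift g g' e
    refine ⟨t ≫ snd A B, ?_⟩
    have hexp : t = lift (t ≫ fst A B) (t ≫ snd A B) := by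
      rw [← comp_lift, lift_fst_snd, Category.comp_id]
    rw [← ht2, hexp, mul_comp_whisker, ← hexp, ht1]
  · rintro ⟨h, rfl⟩
    have := congrArg (lift g h ≫ ·) hpb.w
    simp only [← Category.assoc, lift_fst] at this
    rw [← mul_comp_whisker i g h]
    simpa only [Category.assoc] using this

set_option maxHeartbeats 800000 in
/-- After base change along the orbit map G ⟶ G/H', the map G/H ⟶ G/H' becomes the projection G ⊗ (H'/H) ⟶ G. -/
theorem exists_isPullback_quotientMap [IsMonHom i'] [Mono i'] (hl : l ≫ i' = i)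
    (hX : AGF.IsQuotient i X a o) (hX' : AGF.IsQuotient i' X' a' o') (hY : AGF.IsQuotient l Y b y)
    (hq : a.orbitMap o ≫ qbar = a'.orbitMap o') :
    ∃ θ : G ⊗ Y ⟶ X, IsPullback (fst G Y).left θ.left (a'.orbitMap o').left qbar.left := by
  obtain ⟨hlX, hfX, hsX, hpX⟩ := id hX
  obtain ⟨hlX', hfX', hsX', hpX'⟩ := id hX'
  obtain ⟨hlY, hfY, hsY, hpY⟩ := id hY
  haveI := hlX; haveI := hfX; haveI := hsX
  haveI := hlX'; haveI := hfX'; haveI := hsX'
  haveI := hlY; haveI := hfY; haveI := hsY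
  let π : G ⟶ X := a.orbitMap o
  let π' : G ⟶ X' := a'.orbitMap o'
  let πY : H' ⟶ Y := b.orbitMap y
  have hcX : Desc.IsCover π := Desc.isCover_of_lft _
  have hcY : Desc.IsCover πY := Desc.isCover_of_lft _
  -- the map Y ⟶ X
  obtain ⟨j, hj, -⟩ := hcY.descend_of_isPullback hpY (i' ≫ π) (by
    have e : (fst H' H ≫ i') ≫ π = (((H' ◁ l) ≫ μ[H']) ≫ i') ≫ π := by
      refine (orbit_eq_iff hX _ _).2 ⟨snd H' H, ?_⟩
      have := mul_comp_whisker l (fst H' H) (snd H' H)
      rw [lift_fst_snd, Category.id_comp] at this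
      rw [this, MonObj.mul_comp, Category.assoc, hl]
    simpa only [Category.assoc] using e)
  -- translating by a lift
  have htr : ∀ {T : Over (Spec (CommRingCat.of k))} (g : T ⟶ G) (h : T ⟶ H'),
      lift g (h ≫ i' ≫ π) ≫ a.act = (g * (h ≫ i')) ≫ π := fun g h => by
    show lift g (h ≫ i' ≫ a.orbitMap o) ≫ a.act = (g * (h ≫ i')) ≫ a.orbitMap o
    rw [← Category.assoc h i', AlgGrp.Action.comp_orbitMap (a := a), AlgGrp.Action.comp_orbitMap (a := a),
      AlgGrp.Action.lift_mul_act]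
  have hmon : ∀ {T : Over (Spec (CommRingCat.of k))} (g : T ⟶ G) (h : T ⟶ H'),
      (g * (h ≫ i')) ≫ π' = g ≫ π' := fun g h =>
    ((orbit_eq_iff hX' _ _).2 ⟨h, rfl⟩).symm
  let θ : G ⊗ Y ⟶ X := (G ◁ j) ≫ a.act
  refine ⟨θ, ?_⟩
  have hθ : ∀ {T : Over (Spec (CommRingCat.of k))} (g : T ⟶ G) (p : T ⟶ Y),
      lift g p ≫ θ = lift g (p ≫ j) ≫ a.act := fun g p => by
    show lift g p ≫ (G ◁ j) ≫ a.act = _
    rw [lift_whiskerLeft_assoc]
  have hcomm : fst G Y ≫ π' = θ ≫ qbar := by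
    refine AlgGrp.Action.hom_ext_lift₂ fun T g p => ?_
    obtain ⟨T', r, p', hr, hp⟩ := hcY.exists_lift p
    haveI := hr.epi
    rw [← cancel_epi r, lift_fst_assoc, ← Category.assoc (lift g p), hθ, ← Category.assoc r (_ ≫ a.act),
      ← Category.assoc r (lift g _), comp_lift, ← Category.assoc r p, ← hp, Category.assoc p', hj, htr,
      Category.assoc, show π ≫ qbar = π' from hq, hmon, Category.assoc]
  -- the comparison with the fibre product
  obtain ⟨P, pf, ps, hP⟩ : ∃ (P : Over (Spec (CommRingCat.of k))) (pf : P ⟶ G) (ps : P ⟶ X),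
      IsPullback pf ps π' qbar := ⟨_, _, _, IsPullback.of_hasPullback π' qbar⟩
  let Φ : G ⊗ Y ⟶ P := hP.lift (fst G Y) θ hcomm
  have hΦf : Φ ≫ pf = fst G Y := hP.lift_fst _ _ _
  have hΦs : Φ ≫ ps = θ := hP.lift_snd _ _ _
  have hmono : Mono Φ := by
    refine ⟨fun {T} u v huv => ?_⟩
    have h1 : u ≫ fst G Y = v ≫ fst G Y := by rw [← hΦf, reassoc_of% huv]
    have h2 : u ≫ θ = v ≫ θ := by rw [← hΦs, reassoc_of% huv]
    refine CartesianMonoidalCategory.hom_ext _ _ h1 ?_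
    obtain ⟨T', r, u', v', hr, hu, hv⟩ := hcY.exists_lift₂ (u ≫ snd G Y) (v ≫ snd G Y)
    haveI := hr.epi
    have hexp : ∀ (w : T ⟶ G ⊗ Y), lift (w ≫ fst G Y) (w ≫ snd G Y) = w := fun w => by
      rw [← comp_lift, lift_fst_snd, Category.comp_id]
    rw [← hexp u, ← hexp v, hθ, hθ, ← h1] at h2
    set g := r ≫ u ≫ fst G Y
    have h3 : (g * (u' ≫ i')) ≫ π = (g * (v' ≫ i')) ≫ π := by
      rw [← htr, ← htr, ← hj, ← Category.assoc u', ← Category.assoc v', hu, hv]
      have := congrArg (r ≫ ·) h2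
      simpa only [comp_lift_assoc, Category.assoc] using this
    obtain ⟨h, hh⟩ := (orbit_eq_iff hX _ _).1 h3
    rw [_root_.mul_assoc, mul_left_cancel_iff, ← hl, ← Category.assoc, ← MonObj.mul_comp, cancel_mono] at hh
    rw [← cancel_epi r, ← hu, ← hv]
    exact (orbit_eq_iff hY _ _).2 ⟨h, hh⟩
  -- the cover
  let μ' : G ⊗ H' ⟶ G := (G ◁ i') ≫ μ[G]
  have hc2 : fst G H' ≫ π' = (μ' ≫ π) ≫ qbar := by
    rw [Category.assoc, show π ≫ qbar = π' from hq]; exact hpX'.w
  let Ψ : G ⊗ H' ⟶ P := hP.lift (fst G H') (μ' ≫ π) hc2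
  have hΨf : Ψ ≫ pf = fst G H' := hP.lift_fst _ _ _
  have hΨs : Ψ ≫ ps = μ' ≫ π := hP.lift_snd _ _ _
  have hΨ : IsPullback Ψ μ' ps π := by
    refine IsPullback.of_right (h₁₂ := pf) (v₁₃ := π') (h₂₂ := qbar) ?_ hΨs hP
    rw [hΨf, show π ≫ qbar = π' from hq]
    exact hpX'
  have hΨl : IsPullback μ'.left Ψ.left π.left ps.left := (hΨ.map (Over.forget _)).flip
  have hcΨ : Desc.IsCover Ψ :=
    ⟨MorphismProperty.of_isPullback (P := @Surjective) hΨl hcX.1,
      MorphismProperty.of_isPullback (P := @Flat) hΨl hcX.2.1,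
      MorphismProperty.of_isPullback (P := @LocallyOfFinitePresentation) hΨl hcX.2.2⟩
  have hfac : (G ◁ πY) ≫ Φ = Ψ := by
    refine hP.hom_ext ?_ ?_
    · rw [Category.assoc, hΦf, hΨf, whiskerLeft_fst]
    · rw [Category.assoc, hΦs, hΨs]
      refine AlgGrp.Action.hom_ext_lift₂ fun T g h => ?_
      show lift g h ≫ (G ◁ πY) ≫ θ = lift g h ≫ μ' ≫ π
      rw [lift_whiskerLeft_assoc, hθ, Category.assoc, hj, htr, ← Category.assoc,
        show lift g h ≫ μ' = g * (h ≫ i') from mul_comp_whisker i' g h]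
  haveI : IsIso Φ := by
    obtain ⟨inv, hinv, -⟩ := hcΨ.descend (G ◁ πY) (fun T x x' e => by
      rw [← hfac, ← Category.assoc, ← Category.assoc] at e
      exact hmono.right_cancellation _ _ e)
    haveI := hcΨ.epi
    have h1 : inv ≫ Φ = 𝟙 P := by
      rw [← cancel_epi Ψ, ← Category.assoc, hinv, hfac, Category.comp_id]
    refine ⟨inv, hmono.right_cancellation _ _ ?_, h1⟩
    rw [Category.assoc, h1, Category.comp_id, Category.id_comp]
  have hfin : IsPullback (fst G Y) θ π' qbar :=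
    hP.of_iso (asIso Φ).symm (Iso.refl _) (Iso.refl _) (Iso.refl _) (by simp [← hΦf]) (by simp [← hΦs]) (by simp) (by simp)
  exact hfin.map (Over.forget _)

theorem isPullback_fst_left {A B : Over (Spec (CommRingCat.of k))} :
    IsPullback (fst A B).left (snd A B).left A.hom B.hom :=
  IsPullback.of_hasPullback A.hom B.hom

/-- A property of Y descends to G/H ⟶ G/H'. -/
theorem quotientMap_of_property [QuasiCompact G.hom] [IsMonHom i'] [Mono i'] (hl : l ≫ i' = i)
    (hX : AGF.IsQuotient i X a o) (hX' : AGF.IsQuotient i' X' a' o') (hY : AGF.IsQuotient l Y b y)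
    (hq : a.orbitMap o ≫ qbar = a'.orbitMap o') (P : MorphismProperty Scheme.{u}) [P.IsStableUnderBaseChange]
    [P.DescendsAlong (@Surjective ⊓ @Flat ⊓ @QuasiCompact : MorphismProperty Scheme.{u})]
    (hP : P Y.hom) : P qbar.left := by
  obtain ⟨θ, hθ⟩ := exists_isPullback_quotientMap hl hX hX' hY hq
  haveI : LocallyOfFiniteType X'.hom := hX'.1
  haveI : Flat (a'.orbitMap o').left := hX'.2.1
  haveI : Surjective (a'.orbitMap o').left := hX'.2.2.1
  haveI : QuasiCompact ((a'.orbitMap o').left ≫ X'.hom) := by rw [Over.w]; infer_instance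
  haveI : IsLocallyNoetherian X'.left := LocallyOfFiniteType.isLocallyNoetherian X'.hom
  haveI : QuasiCompact (a'.orbitMap o').left := QuasiCompact.of_comp _ X'.hom
  exact MorphismProperty.of_isPullback_of_descendsAlong
    (Q := (@Surjective ⊓ @Flat ⊓ @QuasiCompact : MorphismProperty Scheme.{u})) hθ
    ⟨⟨inferInstance, inferInstance⟩, inferInstance⟩
    (MorphismProperty.of_isPullback (isPullback_fst_left (A := G) (B := Y)).flip hP)

end Groth.Agent.BorelFix21
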