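import Groth.Agent.Lib.GrpField.Component
import Groth.Agent.Lib.OrbitTop19.Closed
import Groth.Agent.Lib.OrbitTop19.Base

/-!
# The identity component as an open subgroup, over an algebraically closed field
-/

set_option autoImplicit false
set_option linter.style.haveILetI false
set_option backward.isDefEq.respectTransparency.types false
universe u

open CategoryTheory MonoidalCategory CartesianMonoidalCategory MonObj AlgebraicGeometry

noncomputable section

namespace Groth.Agent.BorelFix21

variable {k : Type u} [Field k] [IsAlgClosed k]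

/-- The identity component of a group locally of finite type is a connected open subgroup. -/
theorem exists_identity_component (G : Over (Spec (CommRingCat.of k))) [GrpObj G] [LocallyOfFiniteType G.hom] :
    ∃ (G₀ : Over (Spec (CommRingCat.of k))) (_ : GrpObj G₀) (j : G₀ ⟶ G), IsMonHom j ∧ IsOpenImmersion j.left ∧
      ConnectedSpace G₀.left := by
  haveI : JacobsonSpace G.left := LocallyOfFiniteType.jacobsonSpace G.hom
  set pt : Spec (CommRingCat.of k) := IsLocalRing.closedPoint k
  set e := η[G].left pt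
  let U : G.left.Opens := ⟨connectedComponent e, GrpField.isOpen_connectedComponent G e⟩
  have hUc : IsClosed (U : Set G.left) := isClosed_connectedComponent
  let G₀ : Over (Spec (CommRingCat.of k)) := Over.mk (U.ι ≫ G.hom)
  let j : G₀ ⟶ G := Over.homMk U.ι rfl
  haveI : IsOpenImmersion j.left := inferInstanceAs (IsOpenImmersion U.ι)
  haveI : LocallyOfFiniteType G₀.hom := inferInstanceAs (LocallyOfFiniteType (U.ι ≫ G.hom))
  haveI : Mono j := Over.mono_of_mono_left j
  haveI : ConnectedSpace G₀.left := isConnected_iff_connectedSpace.1 isConnected_connectedComponent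
  have hmem : ∀ p : 𝟙_ (Over (Spec (CommRingCat.of k))) ⟶ G₀, (p ≫ j).left pt ∈ (U : Set G.left) := fun p => by
    rw [← Scheme.Opens.range_ι]
    exact ⟨p.left pt, rfl⟩
  have hmul : ∀ γ δ : 𝟙_ (Over (Spec (CommRingCat.of k))) ⟶ G, γ.left pt ∈ (U : Set G.left) →
      δ.left pt ∈ (U : Set G.left) → (γ * δ).left pt ∈ (U : Set G.left) := by
    intro γ δ hγ hδ
    let τ := OrbitTop19.tr (OrbitTop19.mulAction G) γ
    have hτ : ∀ s : 𝟙_ (Over (Spec (CommRingCat.of k))) ⟶ G, τ.left (s.left pt) = (γ * s).left pt := fun s => by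
      refine OrbitTop19.apply_comp_left s τ _ ?_ pt
      rw [OrbitTop19.comp_tr, toUnit_unique (toUnit (𝟙_ (Over (Spec (CommRingCat.of k))))) (𝟙 _), Category.id_comp]
      rfl
    have hpre : _root_.IsPreconnected (τ.left '' connectedComponent e) :=
      isPreconnected_connectedComponent.image _ τ.left.continuous.continuousOn
    have h1 : (γ * 1).left pt ∈ τ.left '' connectedComponent e := by
      rw [← hτ 1]
      refine Set.mem_image_of_mem _ ?_
      rw [← MonObj.one_eq_one]
      exact mem_connectedComponent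
    rw [_root_.mul_one γ] at h1
    have := hpre.subset_connectedComponent h1 (Set.mem_image_of_mem _ hδ)
    rw [hτ] at this
    show (γ * δ).left pt ∈ connectedComponent e
    rw [connectedComponent_eq (hγ : γ.left pt ∈ connectedComponent e)]
    exact this
  have hinv : ∀ γ : 𝟙_ (Over (Spec (CommRingCat.of k))) ⟶ G, γ.left pt ∈ (U : Set G.left) →
      γ⁻¹.left pt ∈ (U : Set G.left) := by
    intro γ hγ
    have he : (ι[G]).left (γ.left pt) = γ⁻¹.left pt := by
      refine OrbitTop19.apply_comp_left γ ι[G] _ ?_ pt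
      rw [Hom.inv_def]
    have he1 : (ι[G]).left e = e := by
      refine OrbitTop19.apply_comp_left η[G] ι[G] _ ?_ pt
      rw [← Hom.inv_def, MonObj.one_eq_one, inv_one]
    have hpre : _root_.IsPreconnected ((ι[G]).left '' connectedComponent e) :=
      isPreconnected_connectedComponent.image _ (ι[G]).left.continuous.continuousOn
    have := hpre.subset_connectedComponent ⟨e, mem_connectedComponent, he1⟩ ⟨_, hγ, rfl⟩
    rwa [he] at this
  have hlift : ∀ {T : Over (Spec (CommRingCat.of k))} [LocallyOfFiniteType T.hom] (f : T ⟶ G),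
      (∀ p : 𝟙_ (Over (Spec (CommRingCat.of k))) ⟶ T, (p ≫ f).left pt ∈ (U : Set G.left)) →
        ∃ l : T ⟶ G₀, l ≫ j = f := by
    intro T _ f hf
    haveI : JacobsonSpace T.left := LocallyOfFiniteType.jacobsonSpace T.hom
    have hr : Set.range f.left ⊆ Set.range j.left := by
      show Set.range f.left ⊆ Set.range U.ι
      rw [Scheme.Opens.range_ι]
      rintro _ ⟨t, rfl⟩
      by_contra ht
      obtain ⟨q, hq, hqc⟩ := nonempty_inter_closedPoints (⟨t, ht⟩ : (f.left ⁻¹' (U : Set G.left))ᶜ.Nonempty)
        (hUc.preimage f.left.continuous).isOpen_compl.isLocallyClosed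
      obtain ⟨p, rfl⟩ := OrbitTop19.exists_point T q hqc
      refine hq ?_
      show f.left (p.left pt) ∈ (U : Set G.left)
      rw [OrbitTop19.apply_comp_left p f _ rfl]
      exact hf p
    refine ⟨Over.homMk (IsOpenImmersion.lift j.left f.left hr) ?_, Over.OverMorphism.ext (IsOpenImmersion.lift_fac _ _ _)⟩
    rw [← Over.w j, ← Category.assoc, IsOpenImmersion.lift_fac, Over.w]
  haveI : LocallyOfFiniteType (𝟙_ (Over (Spec (CommRingCat.of k)))).hom :=
    inferInstanceAs (LocallyOfFiniteType (𝟙 (Spec (CommRingCat.of k))))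
  haveI : LocallyOfFiniteType (G₀ ⊗ G₀).hom :=
    inferInstanceAs (LocallyOfFiniteType (Limits.pullback.fst G₀.hom G₀.hom ≫ G₀.hom))
  obtain ⟨e', he'⟩ := hlift η[G] fun p => by
    rw [toUnit_unique p (𝟙 _), Category.id_comp]
    exact mem_connectedComponent
  obtain ⟨m, hm⟩ := hlift ((j ⊗ₘ j) ≫ μ[G]) fun p => by
    have h : (j ⊗ₘ j) ≫ μ[G] = (fst G₀ G₀ ≫ j) * (snd G₀ G₀ ≫ j) := by
      rw [Hom.mul_def]
      congr 1

    rw [h, MonObj.comp_mul, ← Category.assoc, ← Category.assoc p]
    exact hmul _ _ (hmem _) (hmem _)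
  obtain ⟨v, hv⟩ := hlift (j ≫ ι[G]) fun p => by
    rw [← Hom.inv_def, GrpObj.comp_inv]
    exact hinv _ (hmem _)
  letI : GrpObj G₀ := AbRigid.grpObjOfMono j e' he' m hm v hv
  exact ⟨G₀, inferInstance, j, ⟨he', hm⟩, inferInstance, inferInstance⟩

end Groth.Agent.BorelFix21
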