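import Groth.Agent.Lib.BorelFix21.Stabilizer
import Groth.Agent.Lib.BorelFix21.BaseChange
import Groth.Agent.Lib.BorelFix21.QuotMap
import Groth.Agent.Lib.GrassAct21.QuotAffine
import Groth.Agent.Lib.GrpLaw19.Basic
import Groth.Agent.S11196
import Groth.Agent.S11189
import Groth.Agent.S8014
import Mathlib.AlgebraicGeometry.QuasiAffine
import Mathlib.AlgebraicGeometry.ZariskisMainTheorem

/-!
# Homogeneous spaces of solvable groups contain no complete subvarieties
-/

set_option autoImplicit false
set_option linter.style.haveILetI false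
set_option backward.isDefEq.respectTransparency.types false
universe u

open CategoryTheory MonoidalCategory CartesianMonoidalCategory MonObj AlgebraicGeometry

noncomputable section

namespace Groth.Agent.BorelFix21

variable {k : Type u} [Field k]

/-- The quotient by a reduced subgroup with the same points is finite over the ground field. -/
theorem isFinite_quotient_of_surjective {H₁ H Y : Over (Spec (CommRingCat.of k))} [GrpObj H₁] [GrpObj H]
    [LocallyOfFiniteType H.hom] [QuasiCompact H.hom] (r : H₁ ⟶ H) [IsMonHom r] [Surjective r.left]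
    {b : AlgGrp.Action H Y} {y : 𝟙_ (Over (Spec (CommRingCat.of k))) ⟶ Y} (hY : AGF.IsQuotient r Y b y) :
    IsFinite Y.hom := by
  obtain ⟨hlft, -, hsurj, -⟩ := id hY
  haveI := hlft
  haveI := hsurj
  have h1 : r ≫ b.orbitMap y = toUnit H₁ ≫ y := by
    have h := (orbit_eq_iff hY (1 : H₁ ⟶ H) r).2 ⟨𝟙 H₁, by rw [_root_.one_mul, Category.id_comp]⟩
    rw [← h, AlgGrp.Action.comp_orbitMap, AlgGrp.Action.lift_one_act]
  haveI : Surjective (r ≫ b.orbitMap y).left := by rw [Over.comp_left]; infer_instance
  haveI : Subsingleton ↥Y.left := by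
    refine ⟨fun u v => ?_⟩
    obtain ⟨x, rfl⟩ := (r ≫ b.orbitMap y).left.surjective u
    obtain ⟨x', rfl⟩ := (r ≫ b.orbitMap y).left.surjective v
    rw [h1, Over.comp_left, Scheme.Hom.comp_apply, Scheme.Hom.comp_apply]
    haveI : Subsingleton ↥(𝟙_ (Over (Spec (CommRingCat.of k)))).left :=
      inferInstanceAs (Subsingleton (PrimeSpectrum k))
    exact congrArg _ (Subsingleton.elim _ _)
  haveI : QuasiCompact Y.hom := by
    rw [quasiCompact_iff_compactSpace]; infer_instance
  haveI : LocallyQuasiFinite Y.hom := LocallyQuasiFinite.of_injective (fun a b _ => Subsingleton.elim a b)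
  exact IsFinite.of_locallyQuasiFinite Y.hom

/-- A scheme proper over the ground field mapping by a closed immersion to a quasi-affine scheme is finite. -/
theorem finite_of_isProper_quasiAffine {W X : Scheme.{u}} [X.IsQuasiAffine] (w : W ⟶ X) [IsClosedImmersion w]
    (hX : X ⟶ Spec (CommRingCat.of k)) [IsProper (w ≫ hX)] : Finite ↥W := by
  haveI : IsProper ((w ≫ X.toSpecΓ) ≫ Spec.map ((Scheme.ΓSpecIso (CommRingCat.of k)).inv ≫ hX.appTop)) := by
    rw [Spec.map_comp, Category.assoc, ← Scheme.toSpecΓ_naturality_assoc,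
      toSpecΓ_SpecMap_ΓSpecIso_inv (CommRingCat.of k), Category.comp_id]
    infer_instance
  haveI : IsProper (w ≫ X.toSpecΓ) :=
    IsProper.of_comp _ (Spec.map ((Scheme.ΓSpecIso (CommRingCat.of k)).inv ≫ hX.appTop))
  haveI : IsClosedImmersion (w ≫ X.toSpecΓ) := (IsClosedImmersion.iff_isProper_and_mono _).2 ⟨inferInstance, inferInstance⟩
  haveI : IsAffine W := isAffine_of_isAffineHom (w ≫ X.toSpecΓ)
  haveI : IsFinite (w ≫ hX) := IsFinite.iff_isProper_and_isAffineHom.2 ⟨inferInstance, inferInstance⟩
  have := (w ≫ hX).finite_preimage_singleton (IsLocalRing.closedPoint k)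
  exact Set.finite_univ_iff.1 (this.subset fun x _ => Subsingleton.elim (α := PrimeSpectrum k) _ _)

set_option maxHeartbeats 800000 in
theorem finite_of_isProper_quotient_isAlgClosed [IsAlgClosed k] {G H : Over (Spec (CommRingCat.of k))} [GrpObj G]
    [GrpObj H] [IsAffine G.left] [Smooth G.hom] (hs : Red.IsSolvableGrp G) (i : H ⟶ G) [IsMonHom i]
    [IsClosedImmersion i.left] {X : Over (Spec (CommRingCat.of k))} {a : AlgGrp.Action G X}
    {o : 𝟙_ (Over (Spec (CommRingCat.of k))) ⟶ X} (hX : AGF.IsQuotient i X a o)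
    {Z : Scheme.{u}} (c : Z ⟶ X.left) [IsClosedImmersion c] [IsProper (c ≫ X.hom)] : Finite ↥Z := by
  haveI : LocallyOfFiniteType H.hom := by rw [← Over.w i]; infer_instance
  haveI : QuasiCompact H.hom := by rw [← Over.w i]; infer_instance
  haveI : IsAffine H.left := isAffine_of_isAffineHom i.left
  obtain ⟨H₁, _, r, hr, hrc, hrs, -, hH₁⟩ := exists_reduced_subgroup H
  haveI := hr
  haveI := hrc
  haveI := hrs
  haveI := hH₁
  haveI : IsClosedImmersion (r ≫ i).left := by rw [Over.comp_left]; infer_instance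
  obtain ⟨X₁, a₁, o₁, hX₁, -, -⟩ := GrassAct21.exists_quotient_affine (r ≫ i)
  obtain ⟨Y, b, y, hY, -, -⟩ := GrassAct21.exists_quotient_affine r
  haveI hqa : X₁.left.IsQuasiAffine :=
    (Groth.Agent.S11189.result k G H₁ (r ≫ i) X₁ a₁ o₁ hX₁).1 (Groth.Agent.S11196.result k G H₁ (r ≫ i) hs)
  haveI := hX.1
  haveI : LocallyOfFiniteType H₁.hom := inferInstance
  haveI : QuasiCompact H₁.hom := by rw [← Over.w r]; infer_instance
  haveI : CompactSpace X.left := InvRing21.IsQuotient.compactSpace hX
  haveI : QuasiCompact X.hom := by rw [quasiCompact_iff_compactSpace]; infer_instance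
  obtain ⟨qbar, ⟨-, hq⟩, -⟩ := Groth.Agent.S8014.result k G H₁ (r ≫ i) X₁ a₁ o₁ hX₁ X a o (fun T h => by
    have h1 := (orbit_eq_iff hX (1 : T ⟶ G) (h ≫ r ≫ i)).2 ⟨h ≫ r, by rw [_root_.one_mul, Category.assoc]⟩
    rw [AlgGrp.Action.comp_orbitMap (a := a), AlgGrp.Action.comp_orbitMap (a := a),
      AlgGrp.Action.lift_one_act] at h1
    exact h1.symm)
  haveI : Mono i := Over.mono_of_mono_left i
  haveI : IsFinite Y.hom := isFinite_quotient_of_surjective r hY
  haveI := FpqcDesc.descendsAlong_isFinite.{u}
  haveI : IsFinite qbar.left := quotientMap_of_property rfl hX₁ hX hY hq @IsFinite inferInstance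
  haveI := hX.2.2.1
  haveI : Surjective ((a₁.orbitMap o₁).left ≫ qbar.left) := by rw [← Over.comp_left, hq]; infer_instance
  haveI : Surjective qbar.left := Surjective.of_comp (a₁.orbitMap o₁).left qbar.left
  let w := Limits.pullback.fst qbar.left c
  have hw : w ≫ X₁.hom = Limits.pullback.snd qbar.left c ≫ c ≫ X.hom := by
    rw [← Over.w qbar, Limits.pullback.condition_assoc]
  haveI : IsProper (w ≫ X₁.hom) := by rw [hw]; infer_instance
  haveI := finite_of_isProper_quasiAffine w X₁.hom
  exact Finite.of_surjective _ (Limits.pullback.snd qbar.left c).surjective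

/-- Homogeneous spaces of connected solvable groups contain no complete subvarieties of positive dimension. -/
theorem finite_of_isProper_quotient {G H : Over (Spec (CommRingCat.of k))} [GrpObj G]
    [GrpObj H] [IsAffine G.left] [Smooth G.hom] (hs : Red.IsSolvableGrp G) (i : H ⟶ G) [IsMonHom i]
    [IsClosedImmersion i.left] {X : Over (Spec (CommRingCat.of k))} {a : AlgGrp.Action G X}
    {o : 𝟙_ (Over (Spec (CommRingCat.of k))) ⟶ X} (hX : AGF.IsQuotient i X a o)
    {Z : Scheme.{u}} (c : Z ⟶ X.left) [IsClosedImmersion c] [IsProper (c ≫ X.hom)] : Finite ↥Z := by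
  let K := AlgebraicClosure k
  let φ : Spec (CommRingCat.of K) ⟶ Spec (CommRingCat.of k) := Spec.map (CommRingCat.ofHom (algebraMap k K))
  open scoped CategoryTheory.Obj in
  have hfin : Finite ↥(Limits.pullback c (Limits.pullback.fst X.hom φ)) := by
    haveI : Smooth ((Over.pullback φ).obj G).hom := smooth_bc φ G
    haveI : IsAffine ((Over.pullback φ).obj G).left := isAffine_bc φ G
    haveI := isClosedImmersion_bc φ i
    have hsK : Red.IsSolvableGrp ((Over.pullback φ).obj G) := GrpLaw19.isSolvableGrp_bc φ hs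
    let cK := Limits.pullback.snd c (Limits.pullback.fst X.hom φ)
    haveI : IsProper (cK ≫ ((Over.pullback φ).obj X).hom) :=
      MorphismProperty.of_isPullback (P := @IsProper)
        ((IsPullback.of_hasPullback c (Limits.pullback.fst X.hom φ)).paste_vert (isPullback_bc φ X)) ‹_›
    exact finite_of_isProper_quotient_isAlgClosed hsK ((Over.pullback φ).map i) (isQuotient_bc φ hX) cK
  haveI := hfin
  haveI : Surjective φ := ⟨fun x => ⟨(IsLocalRing.closedPoint K : PrimeSpectrum K), Subsingleton.elim (α := PrimeSpectrum k) _ _⟩⟩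
  haveI : Surjective (Limits.pullback.fst X.hom φ) :=
    MorphismProperty.of_isPullback (P := @Surjective) (isPullback_bc φ X).flip ‹_›
  exact Finite.of_surjective _ (Limits.pullback.fst c (Limits.pullback.fst X.hom φ)).surjective

end Groth.Agent.BorelFix21
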