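import Groth.Agent.Lib.OrbitTop19.Closed
import Groth.Agent.Lib.OrbitTop19.Base
import Groth.Agent.Lib.AlgGrpBasic19.Basic
import Groth.Prelude.Def_ChGrp
import Mathlib.AlgebraicGeometry.Morphisms.UniversallyClosed
import Mathlib.AlgebraicGeometry.Morphisms.FlatDescent

/-!
# Universal closedness from finitely many pieces and from a fibre of an equivariant map
-/

set_option autoImplicit false
set_option linter.style.haveILetI false
set_option backward.isDefEq.respectTransparency.types false
universe u

open CategoryTheory MonoidalCategory CartesianMonoidalCategory MonObj AlgebraicGeometry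

noncomputable section

namespace Groth.Agent.BorelFix21

/-- A morphism is universally closed if finitely many universally closed pieces cover the source. -/
theorem universallyClosed_of_finite_cover {J : Type*} [Finite J] {X S : Scheme.{u}} (f : X ⟶ S) (Z : J → Scheme.{u})
    (c : ∀ i, Z i ⟶ X) (hc : ∀ i, UniversallyClosed (c i ≫ f)) (hcov : ∀ x, ∃ i, x ∈ Set.range (c i)) :
    UniversallyClosed f := by
  refine ⟨fun {X' S'} g₁ g₂ f' sq => ?_⟩
  intro C hC
  have key : f' '' C = ⋃ i, (Limits.pullback.fst g₁ (c i) ≫ f') ''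
      ((Limits.pullback.fst g₁ (c i)) ⁻¹' C) := by
    ext s
    constructor
    · rintro ⟨x, hx, rfl⟩
      obtain ⟨i, z, hz⟩ := hcov (g₁ x)
      obtain ⟨w, hw, -⟩ := Scheme.Pullback.exists_preimage_pullback x z hz.symm
      refine Set.mem_iUnion.2 ⟨i, w, ?_, ?_⟩
      · show Limits.pullback.fst g₁ (c i) w ∈ C
        rw [hw]
        exact hx
      · rw [Scheme.Hom.comp_apply, hw]
    · intro hs
      obtain ⟨i, w, hw, rfl⟩ := Set.mem_iUnion.1 hs
      exact ⟨_, hw, (Scheme.Hom.comp_apply _ _ _).symm⟩
  rw [key]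
  refine isClosed_iUnion_of_finite fun i => ?_
  have h : IsPullback (Limits.pullback.snd g₁ (c i)) (Limits.pullback.fst g₁ (c i) ≫ f') (c i ≫ f) g₂ :=
    (IsPullback.of_hasPullback g₁ (c i)).flip.paste_vert sq.flip
  haveI : UniversallyClosed (Limits.pullback.fst g₁ (c i) ≫ f') :=
    MorphismProperty.of_isPullback (P := @UniversallyClosed) h (hc i)
  exact (Limits.pullback.fst g₁ (c i) ≫ f').isClosedMap _ (hC.preimage (Limits.pullback.fst g₁ (c i)).continuous)

variable {k : Type u} [Field k] {P X Y : Over (Spec (CommRingCat.of k))} [GrpObj P]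

/-- An equivariant map to a homogeneous space with universally closed fibre is universally closed. -/
theorem universallyClosed_of_fibre [LocallyOfFiniteType P.hom] [QuasiCompact P.hom] [IsSeparated Y.hom]
    [LocallyOfFiniteType Y.hom] (a : AlgGrp.Action P X) (b : AlgGrp.Action P Y) (F : X ⟶ Y)
    (hF : (P ◁ F) ≫ b.act = a.act ≫ F) (y : 𝟙_ (Over (Spec (CommRingCat.of k))) ⟶ Y)
    [Flat (b.orbitMap y).left] [Surjective (b.orbitMap y).left] {Fy : Over (Spec (CommRingCat.of k))} (e : Fy ⟶ X)
    (hFy : IsPullback e (toUnit Fy) F y) [UniversallyClosed Fy.hom] : UniversallyClosed F.left := by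
  set q := b.orbitMap y
  haveI : QuasiCompact q.left := AlgGrpBasic19.quasiCompact_left q
  let PB : Over (Spec (CommRingCat.of k)) := Over.mk (Limits.pullback.fst q.left F.left ≫ P.hom)
  let p : PB ⟶ P := Over.homMk (Limits.pullback.fst q.left F.left) rfl
  let x : PB ⟶ X := Over.homMk (Limits.pullback.snd q.left F.left) (by
    show Limits.pullback.snd q.left F.left ≫ X.hom = Limits.pullback.fst q.left F.left ≫ P.hom
    rw [← Over.w F, ← Limits.pullback.condition_assoc, Over.w q])
  have hpx : x ≫ F = p ≫ q := Over.OverMorphism.ext Limits.pullback.condition.symm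
  have hact : ∀ {T : Over (Spec (CommRingCat.of k))} (g : T ⟶ P) (z : T ⟶ X),
      (lift g z ≫ a.act) ≫ F = lift g (z ≫ F) ≫ b.act := fun g z => by
    rw [Category.assoc, ← hF, lift_whiskerLeft_assoc]
  have hx' : (lift p⁻¹ x ≫ a.act) ≫ F = toUnit PB ≫ y := by
    rw [hact, hpx, AlgGrp.Action.comp_orbitMap, ← AlgGrpBasic19.act_mul, inv_mul_cancel, AlgGrpBasic19.act_one]
  let l : PB ⟶ P ⊗ Fy := lift p (hFy.lift (lift p⁻¹ x ≫ a.act) (toUnit _) hx')
  have hw : (lift (fst P Fy) (snd P Fy ≫ e) ≫ a.act) ≫ F = fst P Fy ≫ q := by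
    rw [hact, Category.assoc, hFy.w, AlgGrp.Action.comp_orbitMap, ← Category.assoc, comp_toUnit]
  let θ₀ : (P ⊗ Fy).left ⟶ Limits.pullback q.left F.left :=
    Limits.pullback.lift (fst P Fy).left (lift (fst P Fy) (snd P Fy ≫ e) ≫ a.act).left
      (by rw [← Over.comp_left, ← Over.comp_left, hw])
  have hlθ : l.left ≫ θ₀ = 𝟙 _ := by
    refine Limits.pullback.hom_ext ?_ ?_
    · rw [Category.assoc, Category.id_comp, Limits.pullback.lift_fst, ← Over.comp_left, lift_fst]
      rfl
    · rw [Category.assoc, Category.id_comp, Limits.pullback.lift_snd, ← Over.comp_left]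
      have : l ≫ lift (fst P Fy) (snd P Fy ≫ e) ≫ a.act = x := by
        rw [← Category.assoc, comp_lift, lift_fst, ← Category.assoc l, lift_snd, IsPullback.lift_fst,
          ← AlgGrpBasic19.act_mul, mul_inv_cancel, AlgGrpBasic19.act_one]
      exact congrArg (fun t => t.left) this
  haveI : Surjective θ₀ := ⟨fun z => ⟨l.left z, by rw [← Scheme.Hom.comp_apply, hlθ]; rfl⟩⟩
  haveI : UniversallyClosed (θ₀ ≫ Limits.pullback.fst q.left F.left) := by
    rw [Limits.pullback.lift_fst]
    exact inferInstanceAs (UniversallyClosed (Limits.pullback.fst P.hom Fy.hom))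
  haveI := UniversallyClosed.of_comp_surjective θ₀ (Limits.pullback.fst q.left F.left)
  exact MorphismProperty.of_isPullback_of_descendsAlong (P := @UniversallyClosed)
    (Q := (@Surjective ⊓ @Flat ⊓ @QuasiCompact : MorphismProperty Scheme.{u}))
    (IsPullback.of_hasPullback q.left F.left) ⟨⟨inferInstance, inferInstance⟩, inferInstance⟩ inferInstance

end Groth.Agent.BorelFix21
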