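import Groth.Agent.Lib.BorelFix21.BorelConj
import Groth.Agent.Lib.BorelFix21.Cover

/-!
# Proper homogeneous spaces; fibres of equivariant maps between homogeneous spaces
-/

set_option autoImplicit false
set_option linter.style.haveILetI false
set_option backward.isDefEq.respectTransparency.types false
universe u

open CategoryTheory MonoidalCategory CartesianMonoidalCategory MonObj AlgebraicGeometry
open scoped TensorProduct

noncomputable section

namespace Groth.Agent.BorelFix21

variable {k : Type u} [Field k] {P : Over (Spec (CommRingCat.of k))} [GrpObj P]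

/-- Rational points of a quotient lift. -/
theorem exists_point_lift [IsAlgClosed k] [LocallyOfFiniteType P.hom] {Z : Over (Spec (CommRingCat.of k))}
    [LocallyOfFiniteType Z.hom] (c : AlgGrp.Action P Z) (z z' : 𝟙_ (Over (Spec (CommRingCat.of k))) ⟶ Z)
    [Surjective (c.orbitMap z).left] :
    ∃ g : 𝟙_ (Over (Spec (CommRingCat.of k))) ⟶ P, g ≫ c.orbitMap z = z' := by
  set pt : Spec (CommRingCat.of k) := IsLocalRing.closedPoint k
  haveI : JacobsonSpace P.left := LocallyOfFiniteType.jacobsonSpace P.hom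
  have hcl : IsClosed ({z'.left pt} : Set Z.left) := by
    haveI := isClosedImmersion_of_comp_eq_id Z.hom z'.left (Over.w z')
    have hrange := z'.left.isClosedEmbedding.isClosed_range
    have : Subsingleton (Spec (CommRingCat.of k)) := inferInstanceAs (Subsingleton (PrimeSpectrum k))
    rwa [Set.range_eq_singleton_iff.2 fun w => congrArg z'.left (Subsingleton.elim w pt)] at hrange
  obtain ⟨v, hv⟩ := (c.orbitMap z).left.surjective (z'.left pt)
  obtain ⟨q, hq, hqc⟩ := nonempty_inter_closedPoints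
    (⟨v, hv⟩ : ((c.orbitMap z).left ⁻¹' {z'.left pt}).Nonempty)
    (hcl.preimage (c.orbitMap z).left.continuous).isLocallyClosed
  obtain ⟨g, rfl⟩ := OrbitTop19.exists_point P q hqc
  refine ⟨g, Over.OverMorphism.ext (ext_of_apply_closedPoint_eq Z.hom (Over.w (g ≫ c.orbitMap z)) (Over.w z') ?_)⟩
  exact (OrbitTop19.apply_comp_left g _ _ rfl pt).symm.trans hq

/-- All orbit maps of a homogeneous space are flat and surjective. -/
theorem flat_surjective_orbitMap [IsAlgClosed k] [LocallyOfFiniteType P.hom] {Z : Over (Spec (CommRingCat.of k))}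
    [LocallyOfFiniteType Z.hom] (c : AlgGrp.Action P Z) (z z' : 𝟙_ (Over (Spec (CommRingCat.of k))) ⟶ Z)
    [Flat (c.orbitMap z).left] [Surjective (c.orbitMap z).left] :
    Flat (c.orbitMap z').left ∧ Surjective (c.orbitMap z').left := by
  obtain ⟨g, hg⟩ := exists_point_lift c z z'
  let R : P ⟶ P := 𝟙 P * (toUnit P ≫ g)
  let R' : P ⟶ P := 𝟙 P * (toUnit P ≫ g)⁻¹
  have e1 : R ≫ R' = 𝟙 P := by
    simp only [R', MonObj.comp_mul, GrpObj.comp_inv, Category.comp_id, ← Category.assoc, comp_toUnit]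
    simp only [R]
    group
  have e2 : R' ≫ R = 𝟙 P := by
    simp only [R, MonObj.comp_mul, GrpObj.comp_inv, Category.comp_id, ← Category.assoc, comp_toUnit]
    simp only [R']
    group
  haveI : IsIso R := ⟨R', e1, e2⟩
  haveI : IsIso R.left := inferInstanceAs (IsIso ((Over.forget _).map R))
  have h : c.orbitMap z' = R ≫ c.orbitMap z := by
    rw [AlgGrp.Action.comp_orbitMap, AlgGrpBasic19.act_mul, AlgGrp.Action.orbitMap, ← hg]
    congr 2
    rw [← Category.assoc, AlgGrp.Action.comp_orbitMap]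
  rw [h, Over.comp_left]
  exact ⟨inferInstance, inferInstance⟩

/-- A representation without fixed hyperplane gives a proper homogeneous space without fixed points. -/
theorem exists_proper_homogeneous [IsAlgClosed k] [IsAffine P.left] [Smooth P.hom] {W : Type u} [AddCommGroup W]
    [Module k W] [Module.Finite k W] (σ : VecGrp.GMod P W) (hW : 0 < Module.finrank k W)
    (hσ : ∀ N : GrassLib.Pt k W 1 k, ∃ g, GrassAct21.actPt (σ.ρ k g) N ≠ N) :
    ∃ (Z : Over (Spec (CommRingCat.of k))) (c : AlgGrp.Action P Z) (z : 𝟙_ (Over (Spec (CommRingCat.of k))) ⟶ Z),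
      (LocallyOfFiniteType Z.hom ∧ Flat (c.orbitMap z).left ∧ Surjective (c.orbitMap z).left) ∧
        IsProper Z.hom ∧ ∀ z', ¬ c.IsFixedPt z' := by
  haveI : Fact (1 ≤ Module.finrank k W) := ⟨hW⟩
  let X := GrassLib.grOver k W 1
  let a : AlgGrp.Action P X := GrassAct21.action σ
  haveI : Nonempty X.left := by
    haveI : Nontrivial W := Module.finrank_pos_iff.1 hW
    obtain ⟨w, hw⟩ := exists_ne (0 : W)
    obtain ⟨ξ, hξ⟩ := Module.Projective.exists_dual_eq_one k hw
    let φ : k ⊗[k] W →ₗ[k] k := ξ ∘ₗ (TensorProduct.lid k W).toLinearMap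
    have hφ : Function.Surjective φ := fun c => ⟨c ⊗ₜ[k] w, by simp [φ, hξ]⟩
    let q := φ.quotKerEquivOfSurjective hφ
    let N : GrassLib.Pt k W 1 k :=
      { toSubmodule := φ.ker
        finite_quotient := Module.Finite.equiv q.symm
        projective_quotient := Module.Projective.of_equiv q.symm
        rankAtStalk_eq := fun p => by
          rw [Module.rankAtStalk_eq_of_equiv q, Module.rankAtStalk_eq_finrank_of_free]
          exact Module.finrank_self k }
    exact ⟨(GrassAct21.sec N).left (IsLocalRing.closedPoint k)⟩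
  obtain ⟨x, hx⟩ := exists_closed_orbit a
  obtain ⟨Go, _, i, hi', hic, hsq⟩ := exists_stabilizer a x
  haveI := hi'
  haveI := hic
  obtain ⟨Z, c, z, f, hq, hfb, hzf, hfi⟩ := Groth.Agent.S8022.result k P X Go a x i hsq
  haveI := hfi
  obtain ⟨hlft, hflat, hsurj, -⟩ := id hq
  haveI := hlft
  have horb : c.orbitMap z ≫ f = a.orbitMap x := by
    rw [AlgGrp.Action.orbitMap, Category.assoc, ← hfb, lift_whiskerLeft_assoc, Category.assoc, hzf]
    rfl
  have hrange : Set.range f.left = Set.range (a.orbitMap x).left := by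
    rw [← horb, Over.comp_left, Scheme.Hom.comp_base, TopCat.coe_comp, Set.range_comp, hsurj.surj.range_eq,
      Set.image_univ]
  haveI : IsClosedImmersion f.left := IsClosedImmersion.of_isPreimmersion _ (hrange ▸ hx)
  refine ⟨Z, c, z, ⟨hlft, hflat, hsurj⟩, by rw [← Over.w f]; infer_instance, fun z' hfix => ?_⟩
  obtain ⟨N, hN⟩ := GrassAct21.exists_eq_sec (z' ≫ f)
  obtain ⟨g, hg⟩ := hσ N
  have h := (GrassAct21.comp_orbitMap_eq_iff σ g N).1 (by
    rw [AlgGrp.Action.comp_orbitMap, hN, ← Category.assoc (toUnit _), ← lift_whiskerLeft_assoc, hfb,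
      ← Category.assoc, hfix _ g])
  rw [show Algebra.ofId k k = AlgHom.id k k from AlgHom.ext fun _ => rfl, GrassLib.gmap_id] at h
  exact hg h

/-- The fibre of an equivariant map is covered by finitely many translates of an orbit of the component. -/
theorem universallyClosed_fibre [IsAlgClosed k] {Y Z Fy Go H Q YQ : Over (Spec (CommRingCat.of k))}
    [GrpObj Go] [GrpObj H] [GrpObj Q] [IsAffine H.left] [LocallyOfFiniteType H.hom] [LocallyOfFiniteType P.hom]
    [LocallyOfFiniteType Y.hom] [IsReduced YQ.left] [UniversallyClosed YQ.hom] [LocallyOfFiniteType Fy.hom] [IsSeparated Fy.hom]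
    (b : AlgGrp.Action P Y) (y : 𝟙_ (Over (Spec (CommRingCat.of k))) ⟶ Y) [Surjective (b.orbitMap y).left]
    (c : AlgGrp.Action P Z) (z' : 𝟙_ (Over (Spec (CommRingCat.of k))) ⟶ Z)
    (F : Y ⟶ Z) (hFo : b.orbitMap y ≫ F = c.orbitMap z') (jQ : Q ⟶ H) [IsMonHom jQ] [IsOpenImmersion jQ.left]
    (r : H ⟶ Go) [IsMonHom r] [IsClosedImmersion r.left] [Surjective r.left] (i : Go ⟶ P) [IsMonHom i]
    (hsq : IsPullback i (toUnit Go) (c.orbitMap z') z') (ey : Fy ⟶ Y) [IsClosedImmersion ey.left]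
    (hsqF : IsPullback ey (toUnit Fy) F z') (bQ : AlgGrp.Action Q YQ)
    (yQ : 𝟙_ (Over (Spec (CommRingCat.of k))) ⟶ YQ) [Surjective (bQ.orbitMap yQ).left] (e : YQ ⟶ Y)
    (heb : (Q ◁ e) ≫ (b.restrict (jQ ≫ r ≫ i)).act = bQ.act ≫ e) (hey : yQ ≫ e = y) :
    UniversallyClosed Fy.hom := by
  classical
  set pt : Spec (CommRingCat.of k) := IsLocalRing.closedPoint k
  haveI : JacobsonSpace Fy.left := LocallyOfFiniteType.jacobsonSpace Fy.hom
  let j0 : VecGrp.pt k k ⟶ 𝟙_ (Over (Spec (CommRingCat.of k))) := toUnit _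
  let j1 := InvRing21.toPt (𝟙_ (Over (Spec (CommRingCat.of k))))
  obtain ⟨s, hs⟩ := InvRing21.exists_finite_cosets jQ
  haveI : IsReduced (𝟙_ (Over (Spec (CommRingCat.of k)))).left := inferInstanceAs (IsReduced (Spec (CommRingCat.of k)))
  let tH : {t // t ∈ s} → (𝟙_ (Over (Spec (CommRingCat.of k))) ⟶ P) := fun t => ((j1 ≫ t.1) ≫ r ≫ i)⁻¹
  -- the translates land in the fibre
  have hGo : ∀ {T : Over (Spec (CommRingCat.of k))} (p : T ⟶ Go), (p ≫ i) ≫ c.orbitMap z' = toUnit T ≫ z' :=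
    fun p => by rw [Category.assoc, hsq.w, ← Category.assoc, comp_toUnit]
  have horbQ : bQ.orbitMap yQ ≫ e = (jQ ≫ r ≫ i) ≫ b.orbitMap y := by
    rw [AlgGrp.Action.orbitMap, Category.assoc, ← heb, lift_whiskerLeft_assoc, Category.assoc, hey,
      AlgGrp.Action.lift_restrict_act, Category.id_comp, AlgGrp.Action.comp_orbitMap]
  have hcl : IsClosed (Set.range ey.left) := ey.left.isClosedEmbedding.isClosed_range
  have hlift : ∀ t, ∃ l : YQ ⟶ Fy, l ≫ ey = e ≫ OrbitTop19.tr b (tH t) := by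
    intro t
    refine PtsDetect19.lift_of_range _ ey ?_
    rintro _ ⟨w, rfl⟩
    obtain ⟨q, rfl⟩ := (bQ.orbitMap yQ).left.surjective w
    let m : Q ⟶ Y := bQ.orbitMap yQ ≫ e ≫ OrbitTop19.tr b (tH t)
    have hm : m = ((toUnit Q ≫ tH t) * (jQ ≫ r ≫ i)) ≫ b.orbitMap y := by
      show bQ.orbitMap yQ ≫ e ≫ _ = _
      rw [← Category.assoc, horbQ, Category.assoc, orbitMap_tr, ← Category.assoc, MonObj.comp_mul,
        Category.comp_id, ← Category.assoc, comp_toUnit]
    have hmF : m ≫ F = toUnit Q ≫ z' := by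
      rw [hm, Category.assoc, hFo]
      have hfac : (toUnit Q ≫ tH t) * (jQ ≫ r ≫ i) = ((toUnit Q ≫ ((j1 ≫ t.1) ≫ r))⁻¹ * (jQ ≫ r)) ≫ i := by
        rw [MonObj.mul_comp, GrpObj.inv_comp, Category.assoc jQ r i, Category.assoc (toUnit Q),
          Category.assoc (j1 ≫ t.1) r i]
        simp only [tH, GrpObj.comp_inv]
      rw [hfac, hGo]
    let l : Q ⟶ Fy := hsqF.lift m (toUnit Q) hmF
    refine ⟨l.left q, ?_⟩
    rw [OrbitTop19.apply_comp_left l ey m (hsqF.lift_fst _ _ _)]
    exact (OrbitTop19.apply_comp_left _ _ _ rfl q).symm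
  choose l hl using hlift
  refine universallyClosed_of_finite_cover Fy.hom (fun _ : {t // t ∈ s} => YQ.left) (fun t => (l t).left)
    (fun t => by rw [Over.w (l t)]; infer_instance) ?_
  have hclosed : IsClosed (⋃ t, Set.range (l t).left) := by
    refine isClosed_iUnion_of_finite fun t => ?_
    haveI : UniversallyClosed ((l t).left ≫ Fy.hom) := by rw [Over.w (l t)]; infer_instance
    haveI : UniversallyClosed (l t).left := UniversallyClosed.of_comp_of_isSeparated (l t).left Fy.hom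
    exact (l t).left.isClosedMap.isClosed_range
  intro v
  have hall : v ∈ ⋃ t, Set.range (l t).left := by
    by_contra hv
    obtain ⟨v', hv', hvc⟩ := nonempty_inter_closedPoints (⟨v, hv⟩ : (⋃ t, Set.range (l t).left)ᶜ.Nonempty)
      hclosed.isOpen_compl.isLocallyClosed
    obtain ⟨p₀, rfl⟩ := OrbitTop19.exists_point Fy v' hvc
    obtain ⟨g, hg⟩ := exists_point_lift b y (p₀ ≫ ey)
    have hgfix : g ≫ c.orbitMap z' = 𝟙 _ ≫ z' := by
      rw [← hFo, ← Category.assoc, hg, Category.assoc, hsqF.w, ← Category.assoc,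
        toUnit_unique (p₀ ≫ toUnit Fy) (𝟙 _)]
    obtain ⟨g', hg'⟩ := PerfProd19.exists_lift_of_surjective r (hsq.lift g (𝟙 _) hgfix)
    obtain ⟨t, ht, q, hq⟩ := hs (j0 ≫ g')
    refine hv' (Set.mem_iUnion.2 ⟨⟨t, ht⟩, (bQ.orbitMap yQ).left ((j1 ≫ q).left pt), ?_⟩)
    apply ey.left.isClosedEmbedding.injective
    rw [OrbitTop19.apply_comp_left (l ⟨t, ht⟩) ey _ (hl _)]
    have hkey : (j1 ≫ q) ≫ bQ.orbitMap yQ ≫ e ≫ OrbitTop19.tr b (tH ⟨t, ht⟩) = p₀ ≫ ey := by
      have hq' : (j1 ≫ q) ≫ jQ = (j1 ≫ t) * g' := by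
        rw [Category.assoc, hq, MonObj.comp_mul, ← Category.assoc j1 j0 g', toUnit_unique (j1 ≫ j0) (𝟙 _),
          Category.id_comp]
      have hgr : g = g' ≫ r ≫ i := by rw [← Category.assoc, hg', IsPullback.lift_fst]
      rw [← Category.assoc (bQ.orbitMap yQ), horbQ, Category.assoc _ (b.orbitMap y), orbitMap_tr,
        ← Category.assoc (jQ ≫ r ≫ i), MonObj.comp_mul, Category.comp_id, ← Category.assoc _ (toUnit P),
        comp_toUnit, ← Category.assoc (j1 ≫ q), MonObj.comp_mul, ← Category.assoc _ (toUnit Q),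
        toUnit_unique ((j1 ≫ q) ≫ toUnit Q) (𝟙 _), Category.id_comp, ← Category.assoc (j1 ≫ q), hq', ← hg]
      congr 1
      rw [hgr, MonObj.mul_comp]
      simp only [tH, inv_mul_cancel_left]
    rw [OrbitTop19.apply_comp_left (j1 ≫ q) (bQ.orbitMap yQ) _ rfl,
      OrbitTop19.apply_comp_left _ (e ≫ OrbitTop19.tr b (tH ⟨t, ht⟩)) _ rfl,
      OrbitTop19.apply_comp_left p₀ ey _ rfl, Category.assoc (j1 ≫ q), hkey]
  exact Set.mem_iUnion.1 hall

end Groth.Agent.BorelFix21
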