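import Groth.Agent.Lib.BorelFix21.BorelConj
import Groth.Agent.Lib.BorelFix21.Cover
import Groth.Agent.Lib.BorelFix21.Homogeneous
import Groth.Agent.S8014
import Groth.Agent.Lib.H12.FlatComp

/-!
# The quotient by a Borel subgroup is proper
-/

set_option autoImplicit false
set_option linter.style.haveILetI false
set_option backward.isDefEq.respectTransparency.types false
universe u

open CategoryTheory MonoidalCategory CartesianMonoidalCategory MonObj AlgebraicGeometry
open scoped TensorProduct

noncomputable section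

namespace Groth.Agent.BorelFix21

variable {k : Type u} [Field k]

/-- The stabiliser in a subgroup of the base point of a quotient. -/
theorem isPullback_stab {G H P X : Over (Spec (CommRingCat.of k))} [GrpObj G] [GrpObj H] [GrpObj P] {i : H ⟶ G}
    [IsMonHom i] {a : AlgGrp.Action G X} {o : 𝟙_ (Over (Spec (CommRingCat.of k))) ⟶ X}
    (hX : AGF.IsQuotient i X a o) (j : P ⟶ G) [IsMonHom j] [Mono j] (f : H ⟶ P) [Mono f] (hf : f ≫ j = i) :
    IsPullback f (toUnit H) ((a.restrict j).orbitMap o) o := by
  obtain ⟨_, _, _, hpb⟩ := hX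
  have horb : ∀ {T : Over (Spec (CommRingCat.of k))} (p : T ⟶ P),
      p ≫ (a.restrict j).orbitMap o = (p ≫ j) ≫ a.orbitMap o := fun p => by
    rw [AlgGrp.Action.comp_orbitMap, AlgGrp.Action.comp_orbitMap, AlgGrp.Action.lift_restrict_act]
  have h1 : ∀ (T : Over (Spec (CommRingCat.of k))), (1 : T ⟶ G) ≫ a.orbitMap o = toUnit T ≫ o := fun T => by
    rw [AlgGrp.Action.comp_orbitMap, AlgGrpBasic19.act_one]
  have hex : ∀ (s : Limits.PullbackCone ((a.restrict j).orbitMap o) o), ∃ h : s.pt ⟶ H, h ≫ f = s.fst := fun s => by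
    have hs : (1 : s.pt ⟶ G) ≫ a.orbitMap o = (s.fst ≫ j) ≫ a.orbitMap o := by
      rw [← horb, s.condition, h1, toUnit_unique s.snd (toUnit _)]
    obtain ⟨t, ht1, ht2⟩ := hpb.exists_lift _ _ hs
    refine ⟨t ≫ snd G H, (cancel_mono j).1 ?_⟩
    rw [Category.assoc, hf, ← ht2, InvRing21.whisker_mul, MonObj.comp_mul, ht1, _root_.one_mul (t ≫ snd G H ≫ i),
      Category.assoc]
  have w : f ≫ (a.restrict j).orbitMap o = toUnit H ≫ o := by
    have h := congrArg (lift (1 : H ⟶ G) (𝟙 H) ≫ ·) hpb.w
    simp only [← Category.assoc, lift_fst, InvRing21.whisker_mul, MonObj.comp_mul, lift_snd, Category.id_comp] at h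
    rw [_root_.one_mul i, h1] at h
    rw [horb, hf, ← h]
  choose l hl using hex
  exact IsPullback.of_isLimit' ⟨w⟩ (Limits.PullbackCone.IsLimit.mk w l hl (fun s => toUnit_unique _ _)
    (fun s m hm _ => (cancel_mono f).1 (by rw [hm, hl])))

variable [IsAlgClosed k]

set_option maxHeartbeats 800000 in
/-- The quotient by a maximal solvable connected subgroup is universally closed. -/
theorem universallyClosed_quotient {G : Over (Spec (CommRingCat.of k))} [GrpObj G] [IsAffine G.left] [Smooth G.hom]
    {B : Over (Spec (CommRingCat.of k))} [GrpObj B] (iB : B ⟶ G) [IsMonHom iB] [IsClosedImmersion iB.left]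
    (hB : Red.IsBorelOver k iB) :
    ∀ (P : Over (Spec (CommRingCat.of k))) [GrpObj P] (j : P ⟶ G) [IsMonHom j] [IsClosedImmersion j.left]
      [Smooth P.hom] [ConnectedSpace P.left] (f : B ⟶ P) [IsMonHom f] [IsClosedImmersion f.left], f ≫ j = iB →
      ∀ (Y : Over (Spec (CommRingCat.of k))) (b : AlgGrp.Action P Y) (y : 𝟙_ (Over (Spec (CommRingCat.of k))) ⟶ Y),
        AGF.IsQuotient f Y b y → UniversallyClosed Y.hom := by
  haveI : IsLocallyNoetherian G.left := LocallyOfFiniteType.isLocallyNoetherian G.hom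
  haveI : IsNoetherian G.left := ⟨⟩
  obtain ⟨-, -, hBs, hBc, hBsol, hmax'⟩ := id hB
  have hmax : ∀ (B' : Over (Spec (CommRingCat.of k))) [GrpObj B'] (i' : B' ⟶ G) [IsMonHom i'] (f : B ⟶ B'),
      IsClosedImmersion i'.left → Smooth B'.hom → ConnectedSpace B'.left → Red.IsSolvableGrp B' → f ≫ i' = iB →
        IsIso f ∧ True := fun B' _ i' _ f h₁ h₂ h₃ h₄ h₅ => ⟨hmax' B' i' f h₁ h₂ h₃ h₄ h₅, trivial⟩
  clear hmax'
  haveI := hBs
  haveI := hBc
  haveI : IsAffine B.left := isAffine_of_isAffineHom iB.left
  suffices key : ∀ (C : TopologicalSpace.Closeds G.left) (P : Over (Spec (CommRingCat.of k))) [GrpObj P] (j : P ⟶ G)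
      [IsMonHom j] [IsClosedImmersion j.left] [Smooth P.hom] [ConnectedSpace P.left] (f : B ⟶ P) [IsMonHom f]
      [IsClosedImmersion f.left], Set.range j.left = C → f ≫ j = iB →
      ∀ (Y : Over (Spec (CommRingCat.of k))) (b : AlgGrp.Action P Y) (y : 𝟙_ (Over (Spec (CommRingCat.of k))) ⟶ Y),
        AGF.IsQuotient f Y b y → UniversallyClosed Y.hom ∧ True by
    intro P _ j _ _ _ _ f _ _ hf
    exact fun Y b y hY => (key ⟨_, j.left.isClosedEmbedding.isClosed_range⟩ P j f rfl hf Y b y hY).1
  intro C
  induction C using WellFoundedLT.induction with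
  | _ C ih =>
    intro P _ j _ _ _ _ f _ _ hC hf Y b y hY
    haveI : IsAffine P.left := isAffine_of_isAffineHom j.left
    refine ⟨?_, trivial⟩
    haveI := InvRing21.IsQuotient.isSeparated hY
    haveI := InvRing21.IsQuotient.compactSpace hY
    obtain ⟨hlft, hflat, hsurj, -⟩ := id hY
    haveI := hlft
    haveI := hflat
    haveI := hsurj
    haveI : QuasiCompact Y.hom := (quasiCompact_iff_compactSpace Y.hom).2 inferInstance
    haveI : Mono f := Over.mono_of_mono_left f
    by_cases hs : Red.IsSolvableGrp P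
    · haveI : IsIso f := (hmax P j f inferInstance inferInstance inferInstance hs hf).1
      have horb : b.orbitMap y = toUnit P ≫ y := by
        have h1 : f ≫ b.orbitMap y = toUnit B ≫ y := by
          have hw := congrArg (lift (1 : B ⟶ P) (𝟙 B) ≫ ·) hY.2.2.2.w
          simp only [← Category.assoc, lift_fst, InvRing21.whisker_mul, MonObj.comp_mul, lift_snd,
            Category.id_comp] at hw
          rw [_root_.one_mul f, AlgGrp.Action.comp_orbitMap, AlgGrpBasic19.act_one] at hw
          exact hw.symm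
        rw [← cancel_epi f, h1, ← Category.assoc, comp_toUnit]
      haveI : Surjective y.left := ⟨fun z => by
        obtain ⟨p, hp⟩ := (b.orbitMap y).left.surjective z
        refine ⟨(toUnit P).left p, ?_⟩
        rw [← hp, horb]
        exact (OrbitTop19.apply_comp_left (toUnit P) y _ rfl p).trans rfl⟩
      haveI : UniversallyClosed (y.left ≫ Y.hom) := by
        rw [Over.w y]
        exact inferInstanceAs (UniversallyClosed (𝟙 (Spec (CommRingCat.of k))))
      exact UniversallyClosed.of_comp_surjective y.left Y.hom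
    obtain ⟨W, _, _, _, hW, σ, hσ⟩ : ∃ (W : Type u) (_ : AddCommGroup W) (_ : Module k W) (_ : Module.Finite k W),
        0 < Module.finrank k W ∧ ∃ σ : VecGrp.GMod P W, ∀ N : GrassLib.Pt k W 1 k,
          ∃ g, GrassAct21.actPt (σ.ρ k g) N ≠ N := by
      by_contra hcon
      refine hs (GrassAct21.isSolvableGrp_of_fixed fun W _ _ _ hW σ => ?_)
      by_contra hN
      push Not at hN
      exact hcon ⟨W, _, _, inferInstance, hW, σ, hN⟩
    obtain ⟨Z, c, z, hZ, hZn⟩ := exists_proper_homogeneous σ hW hσ
    obtain ⟨hlftZ, hflatZ, hsurjZ⟩ := hZ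
    haveI := hlftZ
    haveI := hflatZ
    haveI := hsurjZ
    -- a point fixed by `B`
    haveI : Group.IsSolvable (𝟙_ (Over (Spec (CommRingCat.of k))) ⟶ B) :=
      (Group.isSolvable_def _).2 ⟨hBsol.choose, hBsol.choose_spec _⟩
    haveI := hZn.1
    haveI : Nonempty Z.left := ⟨z.left (IsLocalRing.closedPoint k)⟩
    obtain ⟨z', hz'⟩ := Groth.Agent.S3276.result k B Z (c.restrict f)
    haveI : IsSeparated Z.hom := inferInstance
    obtain ⟨Go, _, i, hi', hic, hsq⟩ := exists_stabilizer c z'
    haveI := hi'
    haveI := hic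
    haveI : IsAffine Go.left := isAffine_of_isAffineHom i.left
    haveI : LocallyOfFiniteType Go.hom := by rw [← Over.w i]; infer_instance
    obtain ⟨H, _, r, hr', hrc, hrs, hHr, hHs⟩ := exists_reduced_subgroup Go
    haveI := hr'
    haveI := hrc
    haveI := hrs
    haveI := hHr
    haveI := hHs
    haveI : IsAffine H.left := isAffine_of_isAffineHom r.left
    obtain ⟨Q, _, jQ, hjQ, hjo, hQc⟩ := exists_identity_component H
    haveI := hjQ
    haveI := hjo
    haveI := hQc
    haveI : IsClosedImmersion jQ.left := InvRing21.isClosedImmersion_of_open_subgroup jQ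
    haveI : Smooth Q.hom := by rw [← Over.w jQ]; infer_instance
    haveI : IsAffine Q.left := isAffine_of_isAffineHom jQ.left
    let jQP : Q ⟶ P := jQ ≫ r ≫ i
    haveI : IsClosedImmersion jQP.left := inferInstanceAs (IsClosedImmersion (jQ.left ≫ r.left ≫ i.left))
    haveI : IsClosedImmersion (jQP ≫ j).left := inferInstanceAs (IsClosedImmersion (jQP.left ≫ j.left))
    haveI : Mono i := Over.mono_of_mono_left i
    haveI : Mono r := Over.mono_of_mono_left r
    haveI : Mono jQ := Over.mono_of_mono_left jQ
    -- `B` lies in the component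
    have hfix : f ≫ c.orbitMap z' = toUnit B ≫ z' := by
      rw [AlgGrp.Action.comp_orbitMap]
      have := hz' B (𝟙 B)
      rwa [AlgGrp.Action.lift_restrict_act, Category.id_comp] at this
    let h₀ : B ⟶ Go := hsq.lift f (toUnit B) hfix
    have hh₀ : h₀ ≫ i = f := hsq.lift_fst _ _ _
    haveI : IsMonHom h₀ := isMonHom_of_comp i h₀ (hh₀ ▸ inferInstance)
    haveI : IsReduced B.left := OrbitTop19.isReduced_of_smooth B.hom
    obtain ⟨h₁, hh₁⟩ := PerfProd19.exists_lift_of_surjective r h₀
    haveI : IsMonHom h₁ := isMonHom_of_comp r h₁ (hh₁ ▸ inferInstance)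
    obtain ⟨g, hg⟩ := exists_lift_component jQ jQ.left.isClosedEmbedding.isClosed_range h₁
    haveI : IsMonHom g := isMonHom_of_comp jQ g (hg ▸ inferInstance)
    have hgf : g ≫ jQP = f := by
      show g ≫ jQ ≫ r ≫ i = f
      rw [← Category.assoc, hg, ← Category.assoc, hh₁, hh₀]
    haveI : IsClosedImmersion (g.left ≫ jQP.left) := by rw [← Over.comp_left, hgf]; infer_instance
    haveI : IsClosedImmersion g.left := IsClosedImmersion.of_comp g.left jQP.left
    haveI : Mono g := Over.mono_of_mono_left g
    haveI : Mono jQP := Over.mono_of_mono_left jQP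
    -- the component is proper
    have hnuniv : ∃ p : P.left, p ∉ Set.range jQP.left := by
      by_contra! hall
      haveI : Surjective i.left := ⟨fun p => by
        obtain ⟨q, hq⟩ := hall p
        exact ⟨(jQ ≫ r).left q, (OrbitTop19.apply_comp_left (jQ ≫ r) i jQP (Category.assoc _ _ _) q).trans hq⟩⟩
      haveI : IsReduced P.left := OrbitTop19.isReduced_of_smooth P.hom
      obtain ⟨l, hl⟩ := PerfProd19.exists_lift_of_surjective i (𝟙 P)
      refine hZn.2 z' fun T p => ?_
      rw [← AlgGrp.Action.comp_orbitMap, ← Category.comp_id p, ← hl, Category.assoc, Category.assoc, hsq.w,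
        ← Category.assoc, ← Category.assoc, comp_toUnit]
    have hlt : (⟨_, (jQP ≫ j).left.isClosedEmbedding.isClosed_range⟩ : TopologicalSpace.Closeds G.left) < C := by
      refine lt_of_le_of_ne ?_ fun he => ?_
      · rintro _ ⟨q, rfl⟩
        exact hC.le ⟨jQP.left q, rfl⟩
      · obtain ⟨p, hp⟩ := hnuniv
        have hmem : j.left p ∈ Set.range (jQP ≫ j).left :=
          (congrArg (fun D : TopologicalSpace.Closeds G.left => (D : Set G.left)) he).ge (hC.le ⟨p, rfl⟩)
        obtain ⟨q, hq⟩ := hmem
        exact hp ⟨q, j.left.isClosedEmbedding.injective hq⟩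
    -- the orbit of the component
    obtain ⟨YQ, bQ, yQ, e, hYQ, heb, hey, hei⟩ := Groth.Agent.S8022.result k Q Y B (b.restrict jQP) y g
      (isPullback_stab hY jQP g hgf)
    haveI : UniversallyClosed YQ.hom := (ih _ hlt Q (jQP ≫ j) g rfl (by rw [← Category.assoc, hgf, hf]) YQ bQ yQ hYQ).1
    haveI : IsReduced YQ.left := by
      haveI := OrbitTop19.isReduced_of_smooth Q.hom
      haveI := hYQ.2.1
      haveI := hYQ.2.2.1
      exact H12.isReduced_of_flat_surjective (bQ.orbitMap yQ).left
    -- the equivariant map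
    haveI : IsProper Z.hom := hZn.1
    obtain ⟨F, ⟨hF, hFo⟩, -⟩ := Groth.Agent.S8014.result k P B f Y b y hY Z c z' (fun T h => by
      have := hz' T h
      rwa [AlgGrp.Action.lift_restrict_act] at this)
    let Fy : Over (Spec (CommRingCat.of k)) := Over.mk (Limits.pullback.fst F.left z'.left ≫ Y.hom)
    let ey : Fy ⟶ Y := Over.homMk (Limits.pullback.fst F.left z'.left) rfl
    have hsqF : IsPullback ey (toUnit Fy) F z' := by
      have e : (Limits.pullback.snd F.left z'.left) = Fy.hom := by
        have h : z'.left ≫ Z.hom = 𝟙 _ := Over.w z'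
        show Limits.pullback.snd _ _ = Limits.pullback.fst _ _ ≫ Y.hom
        rw [← Over.w F, Limits.pullback.condition_assoc, h]
        exact (Category.comp_id _).symm
      refine IsPullback.of_map (Over.forget _) (Over.OverMorphism.ext ?_) ?_
      · show ey.left ≫ _ = (toUnit Fy).left ≫ z'.left
        rw [show (toUnit Fy).left = Fy.hom from rfl, ← e]
        exact Limits.pullback.condition
      · show IsPullback ey.left (toUnit Fy).left F.left z'.left
        rw [show (toUnit Fy).left = Fy.hom from rfl, ← e]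
        exact IsPullback.of_hasPullback _ _
    haveI : IsClosedImmersion z'.left := isClosedImmersion_of_comp_eq_id Z.hom z'.left (Over.w z')
    haveI : IsClosedImmersion ey.left := inferInstanceAs (IsClosedImmersion (Limits.pullback.fst F.left z'.left))
    haveI : LocallyOfFiniteType Fy.hom := inferInstanceAs (LocallyOfFiniteType (ey.left ≫ Y.hom))
    haveI : IsSeparated Fy.hom := inferInstanceAs (IsSeparated (ey.left ≫ Y.hom))
    haveI : Surjective (bQ.orbitMap yQ).left := hYQ.2.2.1
    haveI : UniversallyClosed Fy.hom := universallyClosed_fibre b y c z' F hFo jQ r i hsq ey hsqF bQ yQ e heb hey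
    obtain ⟨hfl, hsu⟩ := flat_surjective_orbitMap c z z'
    haveI := hfl
    haveI := hsu
    haveI := universallyClosed_of_fibre b c F hF z' ey hsqF
    rw [← Over.w F]
    infer_instance

end Groth.Agent.BorelFix21
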