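import Groth.Agent.Lib.BorelFix21.Borels
import Groth.Agent.Lib.BorelFix21.Proper
import Groth.Agent.Lib.GrassAct21.Quot
import Groth.Agent.S8014

/-!
# A quotient is proper exactly when the subgroup contains a Borel subgroup
-/

set_option autoImplicit false
set_option linter.style.haveILetI false
set_option backward.isDefEq.respectTransparency.types false
universe u

open CategoryTheory MonoidalCategory CartesianMonoidalCategory MonObj AlgebraicGeometry

noncomputable section

namespace Groth.Agent.BorelFix21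

variable {k : Type u} [Field k] [IsAlgClosed k] {G P X : Over (Spec (CommRingCat.of k))} [GrpObj G] [GrpObj P]
  [IsAffine G.left] [Smooth G.hom] [ConnectedSpace G.left] {iP : P ⟶ G} [IsMonHom iP] [IsClosedImmersion iP.left]
  {a : AlgGrp.Action G X} {o : 𝟙_ (Over (Spec (CommRingCat.of k))) ⟶ X}

/-- A subgroup with proper quotient contains a Borel subgroup. -/
theorem exists_borel_le_of_isProper (hX : AGF.IsQuotient iP X a o) [IsProper X.hom] :
    ∃ (B : Over (Spec (CommRingCat.of k))) (_ : GrpObj B) (b : B ⟶ P), Red.IsBorelOver k (b ≫ iP) := by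
  obtain ⟨B, _, iB, hB, -⟩ := exists_isBorelOver G
  obtain ⟨hm, hc, hs, hn, hsol, -⟩ := id hB
  haveI := hm
  haveI := hc
  haveI := hs
  haveI := hn
  obtain ⟨gam, h, hh, -⟩ := exists_conj iP iB hsol hX
  exact ⟨B, inferInstance, h, hh ▸ isBorelOver_conj iB hB gam⟩

/-- The quotient by a subgroup containing a Borel subgroup is proper. -/
theorem isProper_of_borel_le [LocallyOfFiniteType P.hom] (hX : AGF.IsQuotient iP X a o)
    {B : Over (Spec (CommRingCat.of k))} [GrpObj B] (b : B ⟶ P) (hb : Red.IsBorelOver k (b ≫ iP)) :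
    IsProper X.hom := by
  obtain ⟨hm, hc, hs, hn, -, -⟩ := id hb
  haveI := hm
  haveI := hc
  haveI := hs
  haveI := hn
  haveI : IsAffine B.left := isAffine_of_isAffineHom (b ≫ iP).left
  haveI : IsAffine P.left := isAffine_of_isAffineHom iP.left
  obtain ⟨hlft, hflat, hsurj, hpb⟩ := id hX
  haveI := hlft
  haveI := hsurj
  haveI : IsSeparated X.hom := InvRing21.IsQuotient.isSeparated hX
  haveI := InvRing21.IsQuotient.compactSpace hX
  haveI : QuasiCompact X.hom := (quasiCompact_iff_compactSpace X.hom).2 inferInstance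
  obtain ⟨Y, c, y, hY, hYs, hYq⟩ := GrassAct21.exists_quotient (b ≫ iP)
  haveI := hYs
  haveI := hYq
  haveI := hY.1
  haveI : IsClosedImmersion (𝟙 G : G ⟶ G).left := inferInstanceAs (IsClosedImmersion (𝟙 G.left))
  haveI : UniversallyClosed Y.hom :=
    universallyClosed_quotient (b ≫ iP) hb G (𝟙 G) (b ≫ iP) (Category.comp_id _) Y c y hY
  have hfix : ∀ (T : Over (Spec (CommRingCat.of k))) (h : T ⟶ B),
      lift (h ≫ b ≫ iP) (toUnit T ≫ o) ≫ a.act = toUnit T ≫ o := by
    intro T h
    have h1 : iP ≫ a.orbitMap o = toUnit P ≫ o := by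
      have hw := congrArg (lift (1 : P ⟶ G) (𝟙 P) ≫ ·) hpb.w
      simp only [← Category.assoc, lift_fst, InvRing21.whisker_mul, MonObj.comp_mul, lift_snd,
        Category.id_comp] at hw
      rw [_root_.one_mul iP, AlgGrp.Action.comp_orbitMap a (1 : P ⟶ G), AlgGrpBasic19.act_one] at hw
      exact hw.symm
    rw [← AlgGrp.Action.comp_orbitMap, Category.assoc, Category.assoc, h1, ← Category.assoc, ← Category.assoc,
      comp_toUnit]
  obtain ⟨f, ⟨-, hf⟩, -⟩ := Groth.Agent.S8014.result k G B (b ≫ iP) Y c y hY X a o hfix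
  haveI : Surjective f.left := ⟨fun x => by
    obtain ⟨g, hg⟩ := (a.orbitMap o).left.surjective x
    exact ⟨(c.orbitMap y).left g, (OrbitTop19.apply_comp_left (c.orbitMap y) f (a.orbitMap o) hf g).trans hg⟩⟩
  haveI : UniversallyClosed (f.left ≫ X.hom) := by rw [Over.w f]; infer_instance
  haveI : UniversallyClosed X.hom := UniversallyClosed.of_comp_surjective f.left X.hom
  exact { }

end Groth.Agent.BorelFix21
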