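import Groth.Agent.Lib.BorelFix21.LieKolchin
import Groth.Agent.Lib.InvRing21.Points
import Groth.Agent.Lib.InvRing21.Semi
import Groth.Agent.Lib.AbRigid.Connected
import Mathlib.LinearAlgebra.Dual.Lemmas

/-!
# The Zariski topology on the rational points of an affine group, eigenfunctions
-/

set_option autoImplicit false
set_option linter.style.haveILetI false
set_option backward.isDefEq.respectTransparency.types false
universe u

open CategoryTheory MonoidalCategory CartesianMonoidalCategory MonObj AlgebraicGeometry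
open scoped TensorProduct commutatorElement

noncomputable section

namespace Groth.Agent.BorelFix21

open InvRing21

variable {k : Type u} [Field k]

attribute [local instance] InvRing21.gamAlg

variable {G : Over (Spec (CommRingCat.of k))}

/-- The topology on rational points induced by the scheme. -/
@[reducible] def ptsTop (G : Over (Spec (CommRingCat.of k))) : TopologicalSpace (VecGrp.pt k k ⟶ G) :=
  TopologicalSpace.induced InvRing21.img inferInstance

attribute [local instance] ptsTop

theorem continuous_comp {G' : Over (Spec (CommRingCat.of k))} (m : G ⟶ G') :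
    Continuous fun x : VecGrp.pt k k ⟶ G => x ≫ m :=
  continuous_induced_rng.2 (m.left.continuous.comp continuous_induced_dom)

theorem exists_pt_of_closed [IsAlgClosed k] [LocallyOfFiniteType G.hom] (z : G.left) (hz : IsClosed ({z} : Set G.left)) :
    ∃ x : VecGrp.pt k k ⟶ G, InvRing21.img x = z := by
  refine ⟨Over.homMk (pointOfClosedPoint G.hom z hz) ?_, pointOfClosedPoint_apply G.hom z hz _⟩
  show pointOfClosedPoint G.hom z hz ≫ G.hom = Spec.map (CommRingCat.ofHom (algebraMap k k))
  rw [pointOfClosedPoint_comp, show CommRingCat.ofHom (algebraMap k k) = 𝟙 _ from rfl, Spec.map_id]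

/-- Points meet every nonempty locally closed subset. -/
theorem exists_pt_mem [IsAlgClosed k] [LocallyOfFiniteType G.hom] {Z : Set G.left} (hZ : IsLocallyClosed Z)
    (hne : Z.Nonempty) : ∃ x : VecGrp.pt k k ⟶ G, InvRing21.img x ∈ Z := by
  haveI : JacobsonSpace G.left := LocallyOfFiniteType.jacobsonSpace G.hom
  obtain ⟨z, hz, hzc⟩ := nonempty_inter_closedPoints hne hZ
  obtain ⟨x, rfl⟩ := exists_pt_of_closed z hzc
  exact ⟨x, hz⟩

theorem preconnectedSpace_pts [IsAlgClosed k] [LocallyOfFiniteType G.hom] [PreconnectedSpace G.left] :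
    PreconnectedSpace (VecGrp.pt k k ⟶ G) := by
  refine ⟨fun U V hU hV hcov ⟨a, _, ha⟩ ⟨b, _, hb⟩ => ?_⟩
  obtain ⟨U', hU', rfl⟩ := isOpen_induced_iff.1 hU
  obtain ⟨V', hV', rfl⟩ := isOpen_induced_iff.1 hV
  have huniv : Set.univ ⊆ U' ∪ V' := fun z _ => by
    by_contra hz
    obtain ⟨x, hx⟩ := exists_pt_mem (hU'.union hV').isClosed_compl.isLocallyClosed ⟨z, hz⟩
    exact hx (hcov (Set.mem_univ x))
  obtain ⟨z, -, hz⟩ := isPreconnected_univ U' V' hU' hV' huniv ⟨_, trivial, ha⟩ ⟨_, trivial, hb⟩
  obtain ⟨x, hx⟩ := exists_pt_mem (hU'.inter hV').isLocallyClosed ⟨z, hz⟩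
  exact ⟨x, trivial, hx⟩

theorem ptHom_bijective : Function.Bijective (InvRing21.ptHom (k := k) k) :=
  (Scheme.ΓSpecIso (CommRingCat.of k)).commRingCatIsoToRingEquiv.bijective

theorem val_ne_zero_iff (x : VecGrp.pt k k ⟶ G) (F : Γ(G.left, ⊤)) :
    InvRing21.val x F ≠ 0 ↔ InvRing21.img x ∈ G.left.basicOpen F := by
  have e : x.left ⁻¹ᵁ G.left.basicOpen F = (VecGrp.pt k k).left.basicOpen (x.left.appTop F) :=
    Scheme.preimage_basicOpen_top _ _
  constructor
  · intro h
    have hu : IsUnit (x.left.appTop F) := by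
      obtain ⟨v, hv⟩ := ptHom_bijective.2 (InvRing21.val x F)⁻¹
      refine IsUnit.of_mul_eq_one v (ptHom_bijective.1 ?_)
      rw [map_mul, hv, map_one]
      exact mul_inv_cancel₀ h
    show IsLocalRing.closedPoint k ∈ x.left ⁻¹ᵁ G.left.basicOpen F
    rw [e, Scheme.basicOpen_of_isUnit _ hu]
    trivial
  · intro h h0
    have h1 : x.left.appTop F = 0 := ptHom_bijective.1 (by rw [map_zero]; exact h0)
    have h2 : IsLocalRing.closedPoint k ∈ x.left ⁻¹ᵁ G.left.basicOpen F := h
    rw [e, h1, Scheme.basicOpen_zero] at h2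
    exact h2

theorem isClosed_val_eq (F : Γ(G.left, ⊤)) (c : k) : IsClosed {x : VecGrp.pt k k ⟶ G | InvRing21.val x F = c} := by
  rw [← isOpen_compl_iff]
  convert (G.left.basicOpen (F - algebraMap k _ c)).isOpen.preimage
    (continuous_induced_dom : Continuous (InvRing21.img : (VecGrp.pt k k ⟶ G) → G.left)) using 1
  ext x
  show ¬ (InvRing21.val x F = c) ↔ InvRing21.img x ∈ G.left.basicOpen _
  rw [← val_ne_zero_iff, map_sub, AlgHom.commutes, Algebra.algebraMap_self, RingHom.id_apply, sub_ne_zero]

variable [GrpObj G]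

theorem continuous_mul_left (a : VecGrp.pt k k ⟶ G) : Continuous (a * ·) := by
  convert continuous_comp (InvRing21.lTr a) using 1
  funext x
  rw [InvRing21.comp_lTr, InvRing21.toPt_pt, Category.id_comp]

theorem continuous_mul_right (a : VecGrp.pt k k ⟶ G) : Continuous (· * a) := by
  convert continuous_comp (InvRing21.rTr a) using 1
  funext x
  rw [InvRing21.comp_rTr, InvRing21.toPt_pt, Category.id_comp]

theorem continuous_inv : Continuous fun x : VecGrp.pt k k ⟶ G => x⁻¹ := by
  convert continuous_comp (𝟙 G)⁻¹ using 1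
  funext x
  rw [GrpObj.comp_inv, Category.comp_id]

theorem continuous_commutator (a : VecGrp.pt k k ⟶ G) : Continuous fun x : VecGrp.pt k k ⟶ G => ⁅a, x⁆ := by
  convert continuous_comp ((InvRing21.toPt G ≫ a) * 𝟙 G * (InvRing21.toPt G ≫ a)⁻¹ * (𝟙 G)⁻¹) using 1
  funext x
  simp only [MonObj.comp_mul, GrpObj.comp_inv, ← Category.assoc, InvRing21.comp_toPt, InvRing21.toPt_pt,
    Category.id_comp, Category.comp_id, commutatorElement_def]

variable [IsAlgClosed k] [IsAffine G.left] [Smooth G.hom]

/-- A finite dimensional space of functions stable under right translations contains an eigenfunction, for a connected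
group with solvable group of rational points. -/
theorem exists_eigenfunction [PreconnectedSpace G.left] [Group.IsSolvable (VecGrp.pt k k ⟶ G)]
    (W : Submodule k Γ(G.left, ⊤)) [FiniteDimensional k W] (hW0 : W ≠ ⊥)
    (hW : ∀ g, ∀ w ∈ W, (InvRing21.rTr g).left.appTop w ∈ W) :
    ∃ φ ∈ W, φ ≠ 0 ∧ ∀ g, ∃ c : k, ∀ x, InvRing21.val (x * g) φ = c * InvRing21.val x φ := by
  haveI := preconnectedSpace_pts (G := G)
  obtain ⟨n, hn⟩ := (isSolvable_def (VecGrp.pt k k ⟶ G)).1 inferInstance
  let R : (VecGrp.pt k k ⟶ G) →* Module.End k W :=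
    { toFun := fun g => (InvRing21.appAlg (InvRing21.rTr g)).toLinearMap.restrict (hW g)
      map_one' := by
        ext w
        refine InvRing21.ext_val fun x => ?_
        show InvRing21.val x ((InvRing21.rTr 1).left.appTop w.1) = InvRing21.val x w.1
        rw [InvRing21.val_rTr, _root_.mul_one x]
      map_mul' := fun a b => by
        ext w
        refine InvRing21.ext_val fun x => ?_
        show InvRing21.val x ((InvRing21.rTr (a * b)).left.appTop w.1) =
          InvRing21.val x ((InvRing21.rTr a).left.appTop ((InvRing21.rTr b).left.appTop w.1))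
        rw [InvRing21.val_rTr, InvRing21.val_rTr, InvRing21.val_rTr, _root_.mul_assoc x] }
  haveI : Nontrivial W := Submodule.nontrivial_iff_ne_bot.2 hW0
  haveI : Module.Free k W := Module.Free.of_divisionRing k W
  let ev : (VecGrp.pt k k ⟶ G) → Module.Dual k W := fun x => (InvRing21.val x).toLinearMap ∘ₗ W.subtype
  have hspan : Submodule.span k (Set.range ev) = ⊤ := Submodule.span_eq_top_of_ne_zero fun z hz => by
    obtain ⟨x, hx⟩ := InvRing21.exists_val_ne_zero (fun h => hz (Subtype.ext h) : (z : Γ(G.left, ⊤)) ≠ 0)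
    exact ⟨ev x, ⟨x, rfl⟩, hx⟩
  have hcoef : ∀ (v : W) (φ : Module.Dual k W), ∃ F, ∀ g, φ (R g v) = InvRing21.val g F := fun v φ => by
    have hφ : φ ∈ Submodule.span k (Set.range ev) := hspan ▸ Submodule.mem_top
    induction hφ using Submodule.span_induction with
    | zero => exact ⟨0, fun g => by simp⟩
    | add φ ψ _ _ h h' =>
      obtain ⟨F, hF⟩ := h
      obtain ⟨F', hF'⟩ := h'
      exact ⟨F + F', fun g => by rw [LinearMap.add_apply, hF, hF', map_add]⟩
    | smul c φ _ h =>
      obtain ⟨F, hF⟩ := h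
      exact ⟨c • F, fun g => by rw [LinearMap.smul_apply, hF, map_smul]⟩
    | mem φ h =>
      obtain ⟨x, rfl⟩ := h
      refine ⟨(InvRing21.lTr x).left.appTop v.1, fun g => ?_⟩
      show InvRing21.val x ((InvRing21.rTr g).left.appTop v.1) = _
      rw [InvRing21.val_rTr, InvRing21.val_lTr]
  obtain ⟨v, hv, he⟩ := exists_eigvec (k := k) (V := W) n hn continuous_mul_left continuous_mul_right continuous_inv
    continuous_commutator R fun v φ c => by
      obtain ⟨F, hF⟩ := hcoef v φ
      simp only [hF]
      exact isClosed_val_eq F c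
  refine ⟨v.1, v.2, fun h => hv (Subtype.ext h), fun g => ?_⟩
  obtain ⟨c, hc⟩ := he g
  refine ⟨c, fun x => ?_⟩
  have := congrArg (fun w : W => InvRing21.val x w.1) hc
  simp only [SetLike.val_smul, map_smul, smul_eq_mul] at this
  rw [← InvRing21.val_rTr]
  exact this

end Groth.Agent.BorelFix21
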