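import Groth.Agent.Lib.GrassAct21.Sub
import Groth.Agent.Lib.BorelFix21.Conj
import Groth.Agent.Lib.BorelFix21.Component
import Groth.Agent.Lib.BorelFix21.Stabilizer

/-!
# Existence and conjugacy of Borel subgroups
-/

set_option autoImplicit false
set_option linter.style.haveILetI false
set_option backward.isDefEq.respectTransparency.types false
universe u

open CategoryTheory MonoidalCategory CartesianMonoidalCategory MonObj AlgebraicGeometry
open scoped TensorProduct

noncomputable section

namespace Groth.Agent.BorelFix21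

variable {k : Type u} [Field k]

/-- A conjugate of a homomorphism is a homomorphism. -/
theorem isMonHom_conj {G B : Over (Spec (CommRingCat.of k))} [GrpObj G] [GrpObj B] (i : B ⟶ G) [IsMonHom i]
    (gam : 𝟙_ (Over (Spec (CommRingCat.of k))) ⟶ G) : IsMonHom ((toUnit B ≫ gam)⁻¹ * i * (toUnit B ≫ gam)) where
  one_hom := by
    rw [MonObj.comp_mul, MonObj.comp_mul, GrpObj.comp_inv, IsMonHom.one_hom i, ← Category.assoc, comp_toUnit,
      MonObj.one_eq_one, _root_.mul_one ((toUnit (𝟙_ (Over (Spec (CommRingCat.of k))))) ≫ gam)⁻¹, inv_mul_cancel]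
  mul_hom := by
    have h : ∀ (c : B ⟶ G), (c ⊗ₘ c) ≫ μ[G] = (fst B B ≫ c) * (snd B B ≫ c) := fun c => by
      rw [Hom.mul_def]
      congr 1
    rw [h, MonObj.comp_mul, MonObj.comp_mul, GrpObj.comp_inv, IsMonHom.mul_hom i, h i]
    simp only [MonObj.comp_mul, GrpObj.comp_inv, ← Category.assoc, comp_toUnit]
    group

theorem isMonHom_of_comp {G P B : Over (Spec (CommRingCat.of k))} [GrpObj G] [GrpObj P] [GrpObj B] (j : P ⟶ G)
    [IsMonHom j] [Mono j] (h : B ⟶ P) (hc : IsMonHom (h ≫ j)) : IsMonHom h where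
  one_hom := by rw [← cancel_mono j, Category.assoc, hc.one_hom, IsMonHom.one_hom]
  mul_hom := by
    rw [← cancel_mono j, Category.assoc, hc.mul_hom, Category.assoc, IsMonHom.mul_hom j,
      MonoidalCategory.tensorHom_comp_tensorHom_assoc]

/-- A morphism from a connected group into a group lands in the identity component. -/
theorem exists_lift_component {H H₀ B : Over (Spec (CommRingCat.of k))} [GrpObj H] [GrpObj H₀] [GrpObj B]
    (j : H₀ ⟶ H) [IsMonHom j] [IsOpenImmersion j.left] (hc : IsClosed (Set.range j.left)) [ConnectedSpace B.left]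
    (h : B ⟶ H) [IsMonHom h] : ∃ l : B ⟶ H₀, l ≫ j = h := by
  let pt : Spec (CommRingCat.of k) := IsLocalRing.closedPoint k
  have he : h.left (η[B].left pt) = η[H].left pt :=
    OrbitTop19.apply_comp_left η[B] h η[H] (IsMonHom.one_hom h) pt
  have he' : η[H].left pt ∈ Set.range j.left := ⟨η[H₀].left pt,
    OrbitTop19.apply_comp_left η[H₀] j η[H] (IsMonHom.one_hom j) pt⟩
  have hr : Set.range h.left ⊆ Set.range j.left :=
    (isPreconnected_range h.left.continuous).subset_isClopen ⟨hc, j.left.isOpenEmbedding.isOpen_range⟩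
      ⟨_, ⟨_, rfl⟩, he ▸ he'⟩
  exact ⟨Over.homMk (IsOpenImmersion.lift j.left h.left hr)
    (by rw [← Over.w j, ← Category.assoc, IsOpenImmersion.lift_fac, Over.w]),
    Over.OverMorphism.ext (IsOpenImmersion.lift_fac _ _ _)⟩

variable [IsAlgClosed k]

/-- A nonsolvable connected group has a proper subgroup containing a conjugate of every solvable connected one. -/
theorem exists_parabolic (G : Over (Spec (CommRingCat.of k))) [GrpObj G] [IsAffine G.left] [Smooth G.hom]
    [ConnectedSpace G.left] (hns : ¬ Red.IsSolvableGrp G) :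
    ∃ (P : Over (Spec (CommRingCat.of k))) (_ : GrpObj P) (j : P ⟶ G), IsMonHom j ∧ IsClosedImmersion j.left ∧
      Smooth P.hom ∧ ConnectedSpace P.left ∧ Set.range j.left ≠ Set.univ ∧
      ∀ (B : Over (Spec (CommRingCat.of k))) [GrpObj B] (iB : B ⟶ G) [IsMonHom iB] [IsClosedImmersion iB.left]
        [Smooth B.hom] [ConnectedSpace B.left], Red.IsSolvableGrp B →
          ∃ (gam : 𝟙_ (Over (Spec (CommRingCat.of k))) ⟶ G) (h : B ⟶ P),
            h ≫ j = (toUnit B ≫ gam)⁻¹ * iB * (toUnit B ≫ gam) := by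
  obtain ⟨W, _, _, _, hW, σ, hσ⟩ : ∃ (W : Type u) (_ : AddCommGroup W) (_ : Module k W) (_ : Module.Finite k W),
      0 < Module.finrank k W ∧ ∃ σ : VecGrp.GMod G W, ∀ N : GrassLib.Pt k W 1 k,
        ∃ g, GrassAct21.actPt (σ.ρ k g) N ≠ N := by
    by_contra hcon
    refine hns (GrassAct21.isSolvableGrp_of_fixed fun W _ _ _ hW σ => ?_)
    by_contra hN
    push Not at hN
    exact hcon ⟨W, _, _, inferInstance, hW, σ, hN⟩
  haveI : Fact (1 ≤ Module.finrank k W) := ⟨hW⟩
  let X := GrassLib.grOver k W 1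
  let a : AlgGrp.Action G X := GrassAct21.action σ
  haveI : Nonempty X.left := by
    haveI : Nontrivial W := Module.finrank_pos_iff.1 hW
    obtain ⟨w, hw⟩ := exists_ne (0 : W)
    obtain ⟨ξ, hξ⟩ := Module.Projective.exists_dual_eq_one k hw
    let φ : k ⊗[k] W →ₗ[k] k := ξ ∘ₗ (TensorProduct.lid k W).toLinearMap
    have hφ : Function.Surjective φ := fun c => ⟨c ⊗ₜ[k] w, by simp [φ, hξ]⟩
    let q := φ.quotKerEquivOfSurjective hφ
    let N : GrassLib.Pt k W 1 k :=
      { toSubmodule := φ.ker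
        finite_quotient := Module.Finite.equiv q.symm
        projective_quotient := Module.Projective.of_equiv q.symm
        rankAtStalk_eq := fun p => by
          rw [Module.rankAtStalk_eq_of_equiv q, Module.rankAtStalk_eq_finrank_of_free]
          exact Module.finrank_self k }
    exact ⟨(GrassAct21.sec N).left (IsLocalRing.closedPoint k)⟩
  obtain ⟨x, hx⟩ := exists_closed_orbit a
  have hnfix : ¬ a.IsFixedPt x := fun hfix => by
    obtain ⟨N, rfl⟩ := GrassAct21.exists_eq_sec x
    obtain ⟨g, hg⟩ := hσ N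
    have h := (GrassAct21.comp_orbitMap_eq_iff σ g N).1 (by
      rw [AlgGrp.Action.comp_orbitMap]
      exact hfix _ g)
    rw [show Algebra.ofId k k = AlgHom.id k k from AlgHom.ext fun _ => rfl, GrassLib.gmap_id] at h
    exact hg h
  obtain ⟨Go, _, i, hi', hic, hsq⟩ := exists_stabilizer a x
  haveI := hi'
  haveI := hic
  haveI : IsAffine Go.left := isAffine_of_isAffineHom i.left
  haveI : LocallyOfFiniteType Go.hom := by rw [← Over.w i]; infer_instance
  obtain ⟨H, _, r, hr', hrc, hrs, hHr, hHs⟩ := exists_reduced_subgroup Go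
  haveI := hr'
  haveI := hrc
  haveI := hrs
  haveI := hHr
  haveI := hHs
  haveI : IsAffine H.left := isAffine_of_isAffineHom r.left
  obtain ⟨P, _, jP, hjP, hjo, hPc⟩ := exists_identity_component H
  haveI := hjP
  haveI := hjo
  haveI := hPc
  haveI : IsClosedImmersion jP.left := InvRing21.isClosedImmersion_of_open_subgroup jP
  haveI : Smooth P.hom := by rw [← Over.w jP]; infer_instance
  haveI : IsClosedImmersion (jP ≫ r ≫ i).left :=
    inferInstanceAs (IsClosedImmersion (jP.left ≫ r.left ≫ i.left))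
  haveI : Mono i := Over.mono_of_mono_left i
  haveI : Mono r := Over.mono_of_mono_left r
  refine ⟨P, inferInstance, jP ≫ r ≫ i, inferInstance, inferInstance, inferInstance, inferInstance, ?_, ?_⟩
  · intro huniv
    haveI : Surjective i.left := ⟨fun g => by
      obtain ⟨p, hp⟩ := huniv.ge (Set.mem_univ g)
      exact ⟨(jP ≫ r).left p, (OrbitTop19.apply_comp_left (jP ≫ r) i (jP ≫ r ≫ i) (Category.assoc _ _ _) p).trans hp⟩⟩
    haveI : IsReduced G.left := OrbitTop19.isReduced_of_smooth G.hom
    obtain ⟨l, hl⟩ := PerfProd19.exists_lift_of_surjective i (𝟙 G)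
    refine hnfix fun T g => ?_
    rw [← AlgGrp.Action.comp_orbitMap, ← Category.comp_id g, ← hl, Category.assoc, Category.assoc, hsq.w,
      ← Category.assoc, ← Category.assoc, comp_toUnit]
  intro B _ iB _ _ _ _ hs
  obtain ⟨Y, b, y, f, hq, hfb, hyf, hfi⟩ := Groth.Agent.S8022.result k G X Go a x i hsq
  haveI := hfi
  obtain ⟨hlft, hflat, hsurj, -⟩ := id hq
  haveI := hlft
  have horb : b.orbitMap y ≫ f = a.orbitMap x := by
    rw [AlgGrp.Action.orbitMap, Category.assoc, ← hfb, lift_whiskerLeft_assoc, Category.assoc, hyf]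
    rfl
  have hrange : Set.range f.left = Set.range (a.orbitMap x).left := by
    rw [← horb, Over.comp_left, Scheme.Hom.comp_base, TopCat.coe_comp, Set.range_comp, hsurj.surj.range_eq,
      Set.image_univ]
  haveI : IsClosedImmersion f.left := IsClosedImmersion.of_isPreimmersion _ (hrange ▸ hx)
  haveI : IsProper Y.hom := by rw [← Over.w f]; infer_instance
  obtain ⟨gam, h, hh, -⟩ := exists_conj i iB hs hq
  haveI hconj := isMonHom_conj iB gam
  haveI : IsMonHom h := isMonHom_of_comp i h (hh ▸ hconj)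
  haveI : IsReduced B.left := OrbitTop19.isReduced_of_smooth B.hom
  obtain ⟨h₁, hh₁⟩ := PerfProd19.exists_lift_of_surjective r h
  haveI : IsMonHom h₁ := isMonHom_of_comp r h₁ (hh₁ ▸ inferInstance)
  obtain ⟨h₂, hh₂⟩ := exists_lift_component jP jP.left.isClosedEmbedding.isClosed_range h₁
  exact ⟨gam, h₂, by rw [← hh, ← hh₁, ← hh₂, Category.assoc, Category.assoc]⟩

/-- Every connected smooth affine group has a solvable connected subgroup containing conjugates of all others. -/
theorem exists_borel (G : Over (Spec (CommRingCat.of k))) [GrpObj G] [IsAffine G.left] [Smooth G.hom] :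
    ∀ (P : Over (Spec (CommRingCat.of k))) [GrpObj P] (j : P ⟶ G) [IsMonHom j] [IsClosedImmersion j.left]
      [Smooth P.hom] [ConnectedSpace P.left],
      ∃ (B₀ : Over (Spec (CommRingCat.of k))) (_ : GrpObj B₀) (b : B₀ ⟶ P), IsMonHom b ∧ IsClosedImmersion b.left ∧
        Smooth B₀.hom ∧ ConnectedSpace B₀.left ∧ Red.IsSolvableGrp B₀ ∧
        ∀ (B : Over (Spec (CommRingCat.of k))) [GrpObj B] (iB : B ⟶ P) [IsMonHom iB] [IsClosedImmersion iB.left]
          [Smooth B.hom] [ConnectedSpace B.left], Red.IsSolvableGrp B →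
            ∃ (gam : 𝟙_ (Over (Spec (CommRingCat.of k))) ⟶ P) (h : B ⟶ B₀),
              h ≫ b = (toUnit B ≫ gam)⁻¹ * iB * (toUnit B ≫ gam) := by
  haveI : IsLocallyNoetherian G.left := LocallyOfFiniteType.isLocallyNoetherian G.hom
  haveI : IsNoetherian G.left := ⟨⟩
  suffices key : ∀ (C : TopologicalSpace.Closeds G.left) (P : Over (Spec (CommRingCat.of k))) [GrpObj P] (j : P ⟶ G)
      [IsMonHom j] [IsClosedImmersion j.left] [Smooth P.hom] [ConnectedSpace P.left], Set.range j.left = C →
      ∃ (B₀ : Over (Spec (CommRingCat.of k))) (_ : GrpObj B₀) (b : B₀ ⟶ P), IsMonHom b ∧ IsClosedImmersion b.left ∧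
        Smooth B₀.hom ∧ ConnectedSpace B₀.left ∧ Red.IsSolvableGrp B₀ ∧
        ∀ (B : Over (Spec (CommRingCat.of k))) [GrpObj B] (iB : B ⟶ P) [IsMonHom iB] [IsClosedImmersion iB.left]
          [Smooth B.hom] [ConnectedSpace B.left], Red.IsSolvableGrp B →
            ∃ (gam : 𝟙_ (Over (Spec (CommRingCat.of k))) ⟶ P) (h : B ⟶ B₀),
              h ≫ b = (toUnit B ≫ gam)⁻¹ * iB * (toUnit B ≫ gam) by
    intro P _ j _ _ _ _
    exact key ⟨_, j.left.isClosedEmbedding.isClosed_range⟩ P j rfl
  intro C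
  induction C using WellFoundedLT.induction with
  | _ C ih =>
    intro P _ j _ _ _ _ hC
    haveI : IsAffine P.left := isAffine_of_isAffineHom j.left
    by_cases hs : Red.IsSolvableGrp P
    · refine ⟨P, inferInstance, 𝟙 P, inferInstance, inferInstanceAs (IsClosedImmersion (𝟙 P.left)), inferInstance,
        inferInstance, hs, fun B _ iB _ _ _ _ _ => ⟨1, iB, ?_⟩⟩
      rw [Category.comp_id, MonObj.comp_one, inv_one, _root_.one_mul iB, _root_.mul_one iB]
    obtain ⟨Q, _, jQ, hjQ, hjQc, hQs, hQc, hne, hQ⟩ := exists_parabolic P hs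
    haveI := hjQ
    haveI := hjQc
    haveI := hQs
    haveI := hQc
    haveI : IsClosedImmersion (jQ ≫ j).left := inferInstanceAs (IsClosedImmersion (jQ.left ≫ j.left))
    have hlt : (⟨_, (jQ ≫ j).left.isClosedEmbedding.isClosed_range⟩ : TopologicalSpace.Closeds G.left) < C := by
      refine lt_of_le_of_ne ?_ fun he => hne (Set.eq_univ_of_forall fun p => ?_)
      · rintro _ ⟨q, rfl⟩
        exact hC.le ⟨jQ.left q, rfl⟩
      · have hp : j.left p ∈ Set.range (jQ ≫ j).left :=
          (congrArg (fun D : TopologicalSpace.Closeds G.left => (D : Set G.left)) he).ge (hC.le ⟨p, rfl⟩)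
        obtain ⟨q, hq⟩ := hp
        exact ⟨q, j.left.isClosedEmbedding.injective hq⟩
    obtain ⟨B₀, _, b, hb, hbc, hBs, hBc, hBsol, hB⟩ := ih _ hlt Q (jQ ≫ j) rfl
    haveI := hb
    haveI := hbc
    refine ⟨B₀, inferInstance, b ≫ jQ, inferInstance, inferInstanceAs (IsClosedImmersion (b.left ≫ jQ.left)),
      hBs, hBc, hBsol, fun B _ iB _ _ _ _ hBS => ?_⟩
    obtain ⟨gam, h, hh⟩ := hQ B iB hBS
    haveI hconj := isMonHom_conj iB gam
    haveI : Mono jQ := Over.mono_of_mono_left jQ
    haveI : IsMonHom h := isMonHom_of_comp jQ h (hh ▸ hconj)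
    let c : P ⟶ P := (toUnit P ≫ gam)⁻¹ * 𝟙 P * (toUnit P ≫ gam)
    let c' : P ⟶ P := (toUnit P ≫ gam) * 𝟙 P * (toUnit P ≫ gam)⁻¹
    have e1 : c ≫ c' = 𝟙 P := by
      simp only [c', MonObj.comp_mul, GrpObj.comp_inv, Category.comp_id, ← Category.assoc, comp_toUnit]
      simp only [c]
      group
    have e2 : c' ≫ c = 𝟙 P := by
      simp only [c, MonObj.comp_mul, GrpObj.comp_inv, Category.comp_id, ← Category.assoc, comp_toUnit]
      simp only [c']
      group
    haveI : IsIso c := ⟨c', e1, e2⟩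
    haveI : IsIso c.left := inferInstanceAs (IsIso ((Over.forget _).map c))
    have hc : h ≫ jQ = iB ≫ c := by
      rw [hh]
      simp only [c, MonObj.comp_mul, GrpObj.comp_inv, Category.comp_id, ← Category.assoc, comp_toUnit]
    haveI : IsClosedImmersion (h.left ≫ jQ.left) := by rw [← Over.comp_left, hc, Over.comp_left]; infer_instance
    haveI : IsClosedImmersion h.left := IsClosedImmersion.of_comp h.left jQ.left
    obtain ⟨δ, h', hh'⟩ := hB B h hBS
    refine ⟨gam * (δ ≫ jQ), h', ?_⟩
    rw [← Category.assoc, hh', MonObj.mul_comp, MonObj.mul_comp, GrpObj.inv_comp, hh, Category.assoc, MonObj.comp_mul,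
      mul_inv_rev]
    group

end Groth.Agent.BorelFix21
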