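import Mathlib.GroupTheory.Solvable
import Mathlib.Topology.Connected.Basic
import Mathlib.Topology.Connected.Clopen
import Mathlib.LinearAlgebra.Eigenspace.Triangularizable
import Mathlib.LinearAlgebra.Determinant
import Mathlib.LinearAlgebra.Eigenspace.Minpoly
import Mathlib.GroupTheory.Abelianization.Defs
import Mathlib.RingTheory.IntegralDomain

/-!
# Lie–Kolchin for solvable groups with a connected topology

A solvable group with a topology which is preconnected and for which translations, inversion and
commutation with a fixed element are continuous has a common eigenvector in every finite dimensional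
representation over an algebraically closed field whose matrix coefficients have closed fibres. This
is the classical theorem, applied to the rational points of a connected solvable group with the Zariski
topology.
-/

set_option autoImplicit false
universe u v

open scoped commutatorElement

namespace Groth.Agent.BorelFix21

/-- A map with closed fibres and finitely many values on a preconnected space is constant. -/
theorem eq_of_finite_range {M : Type*} [TopologicalSpace M] [PreconnectedSpace M] {β : Type*} (f : M → β)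
    (hf : (Set.range f).Finite) (hcl : ∀ c, IsClosed (f ⁻¹' {c})) (x y : M) : f x = f y := by
  have hcomp : (f ⁻¹' {f x})ᶜ = ⋃ c ∈ Set.range f \ {f x}, f ⁻¹' {c} := by
    ext z
    simp [eq_comm]
  have : IsClopen (f ⁻¹' {f x}) := by
    refine ⟨hcl _, ?_⟩
    rw [← compl_compl (f ⁻¹' {f x}), isOpen_compl_iff, hcomp]
    exact Set.Finite.isClosed_biUnion (hf.sdiff) fun c _ => hcl c
  have h := (isClopen_iff.1 this).resolve_left (Set.Nonempty.ne_empty ⟨x, rfl⟩)
  exact (h.ge (Set.mem_univ y) : f y = f x).symm

variable {k : Type u} [Field k] {V : Type v} [AddCommGroup V] [Module k V]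

/-- A family of endomorphisms commuting on an invariant subspace has a common eigenvector there. -/
theorem exists_common_eigvec [IsAlgClosed k] [FiniteDimensional k V] {ι : Type*} (f : ι → Module.End k V)
    (n : ℕ) : ∀ W : Submodule k V, W ≠ ⊥ → Module.finrank k W ≤ n → (∀ i, ∀ w ∈ W, f i w ∈ W) →
      (∀ i j, ∀ w ∈ W, f i (f j w) = f j (f i w)) → ∃ v ∈ W, v ≠ 0 ∧ ∀ i, ∃ c : k, f i v = c • v := by
  induction n with
  | zero =>
    intro W hW hn _ _
    exact absurd (Submodule.finrank_eq_zero.1 (Nat.le_zero.1 hn)) hW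
  | succ n ih =>
    intro W hW hn hst hcomm
    by_cases hs : ∀ i, ∃ c : k, ∀ w ∈ W, f i w = c • w
    · obtain ⟨v, hv, hv0⟩ := Submodule.exists_mem_ne_zero_of_ne_bot hW
      exact ⟨v, hv, hv0, fun i => ⟨(hs i).choose, (hs i).choose_spec v hv⟩⟩
    push Not at hs
    obtain ⟨i, hi⟩ := hs
    haveI : Nontrivial W := Submodule.nontrivial_iff_ne_bot.2 hW
    obtain ⟨c, hc⟩ := Module.End.exists_eigenvalue ((f i).restrict (hst i))
    obtain ⟨w, hw, hw0⟩ := hc.exists_hasEigenvector
    let W' : Submodule k V := W ⊓ LinearMap.ker (f i - c • LinearMap.id)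
    have hmem : ∀ x, x ∈ W' ↔ x ∈ W ∧ f i x = c • x := fun x => by simp [W', sub_eq_zero]
    have hwW' : (w : V) ∈ W' := (hmem _).2 ⟨w.2, congrArg Subtype.val (Module.End.mem_eigenspace_iff.1 hw)⟩
    have hne : W' ≠ ⊥ := fun h => hw0 (Subtype.ext ((Submodule.mem_bot k).1 (h ▸ hwW')))
    have hlt : W' < W := lt_of_le_of_ne inf_le_left fun h => by
      obtain ⟨x, hx, hx'⟩ := hi c
      exact hx' ((hmem x).1 (h.ge hx)).2
    obtain ⟨v, hv, hv0, hve⟩ := ih W' hne (by have := Submodule.finrank_lt_finrank_of_lt hlt; omega)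
      (fun j x hx => by
        obtain ⟨hx1, hx2⟩ := (hmem x).1 hx
        exact (hmem _).2 ⟨hst j x hx1, by rw [hcomm i j x hx1, hx2, map_smul]⟩)
      (fun j l x hx => hcomm j l x ((hmem x).1 hx).1)
    exact ⟨v, ((hmem v).1 hv).1, hv0, hve⟩

section commutator

variable {M : Type*} [Group M] [TopologicalSpace M] [PreconnectedSpace M]

/-- The commutator subgroup is preconnected. -/
theorem isPreconnected_commutator (hl : ∀ a : M, Continuous (a * ·))
    (hc : ∀ a : M, Continuous fun b : M => ⁅a, b⁆) : IsPreconnected ((commutator M : Subgroup M) : Set M) := by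
  let C : Set M := ⋃ a : M, Set.range fun b : M => ⁅a, b⁆
  have hC1 : ∀ a : M, (1 : M) ∈ Set.range fun b : M => ⁅a, b⁆ := fun a => ⟨1, commutatorElement_one_right a⟩
  have hC : IsPreconnected C :=
    isPreconnected_iUnion ⟨1, Set.mem_iInter.2 hC1⟩ fun a => isPreconnected_range (hc a)
  let S : ℕ → Set M := fun n => Nat.rec {(1 : M)} (fun _ s => ⋃ x ∈ s, (x * ·) '' C) n
  have hone : ∀ n, (1 : M) ∈ S n := by
    intro n
    induction n with
    | zero => exact Set.mem_singleton _
    | succ n ih => exact Set.mem_biUnion ih ⟨1, Set.mem_iUnion.2 ⟨1, hC1 1⟩, mul_one _⟩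
  have hsub : ∀ n, S n ⊆ S (n + 1) := fun n x hx =>
    Set.mem_biUnion hx ⟨1, Set.mem_iUnion.2 ⟨1, hC1 1⟩, mul_one x⟩
  have hpre : ∀ n, IsPreconnected (S n) := by
    intro n
    induction n with
    | zero => exact isPreconnected_singleton
    | succ n ih =>
      refine isPreconnected_of_forall 1 fun y hy => ?_
      obtain ⟨x, hx, hy'⟩ := Set.mem_iUnion₂.1 hy
      refine ⟨S n ∪ (x * ·) '' C, Set.union_subset (hsub n) fun z hz => Set.mem_biUnion hx hz, Or.inl (hone n),
        Or.inr hy', ?_⟩
      exact ih.union x hx ⟨1, Set.mem_iUnion.2 ⟨1, hC1 1⟩, mul_one x⟩ (hC.image _ (hl x).continuousOn)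
  have heq : ((commutator M : Subgroup M) : Set M) = ⋃ n, S n := by
    refine Set.Subset.antisymm (fun y hy => ?_) (Set.iUnion_subset fun n => ?_)
    · change y ∈ (commutator M).toSubmonoid at hy
      rw [commutator_eq_closure, Subgroup.closure_toSubmonoid] at hy
      induction hy using Submonoid.closure_induction_right with
      | one => exact Set.mem_iUnion.2 ⟨0, Set.mem_singleton _⟩
      | mul_right x _ c hc' ih =>
        obtain ⟨n, hn⟩ := Set.mem_iUnion.1 ih
        refine Set.mem_iUnion.2 ⟨n + 1, Set.mem_biUnion hn ⟨c, ?_, rfl⟩⟩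
        rcases hc' with ⟨a, b, rfl⟩ | ⟨a, b, hab⟩
        · exact Set.mem_iUnion.2 ⟨a, b, rfl⟩
        · exact Set.mem_iUnion.2 ⟨b, a, by show ⁅b, a⁆ = c; rw [← commutatorElement_inv, hab, inv_inv]⟩
    · induction n with
      | zero => exact Set.singleton_subset_iff.2 (one_mem _)
      | succ n ih =>
        refine Set.iUnion₂_subset fun x hx => ?_
        rintro _ ⟨c, hc', rfl⟩
        obtain ⟨a, b, rfl⟩ := Set.mem_iUnion.1 hc'
        exact mul_mem (ih hx) (Subgroup.commutator_mem_commutator (Subgroup.mem_top _) (Subgroup.mem_top _))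
  rw [heq]
  exact isPreconnected_iUnion ⟨1, Set.mem_iInter.2 hone⟩ hpre

end commutator

theorem map_derivedSeries_commutator {M : Type*} [Group M] (n : ℕ) :
    (derivedSeries ↥(commutator M) n).map (commutator M).subtype = derivedSeries M (n + 1) := by
  induction n with
  | zero => rw [derivedSeries_zero, derivedSeries_one, ← MonoidHom.range_eq_map, Subgroup.range_subtype]
  | succ n ih => rw [derivedSeries_succ, Subgroup.map_commutator, ih, ← derivedSeries_succ]

/-- Lie–Kolchin. -/
theorem exists_eigvec [IsAlgClosed k] [FiniteDimensional k V] [Nontrivial V] (n : ℕ) :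
    ∀ {M : Type u} [Group M] [TopologicalSpace M] [PreconnectedSpace M], derivedSeries M n = ⊥ →
      (∀ a : M, Continuous (a * ·)) → (∀ a : M, Continuous (· * a)) → Continuous (fun a : M => a⁻¹) →
      (∀ a : M, Continuous fun b : M => ⁅a, b⁆) →
      ∀ ρ : M →* Module.End k V, (∀ (v : V) (φ : Module.Dual k V) (c : k), IsClosed {m | φ (ρ m v) = c}) →
        ∃ v : V, v ≠ 0 ∧ ∀ m, ∃ c : k, ρ m v = c • v := by
  induction n with
  | zero =>
    intro M _ _ _ h _ _ _ _ ρ _
    obtain ⟨v, hv⟩ := exists_ne (0 : V)
    rw [derivedSeries_zero] at h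
    refine ⟨v, hv, fun m => ⟨1, ?_⟩⟩
    rw [(Subgroup.mem_bot).1 (h ▸ Subgroup.mem_top m : m ∈ (⊥ : Subgroup M)), map_one, one_smul]
    rfl
  | succ n ih =>
    intro M _ _ _ h hl hr hi hc ρ hρ
    let D := commutator M
    haveI : PreconnectedSpace D := Subtype.preconnectedSpace (isPreconnected_commutator hl hc)
    have hD : derivedSeries D n = ⊥ := by
      rw [← Subgroup.map_eq_bot_iff_of_injective _ (Subgroup.subtype_injective D), map_derivedSeries_commutator, h]
    obtain ⟨v, hv, hve⟩ := ih hD
      (fun a => ((hl a).comp continuous_subtype_val).subtype_mk _)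
      (fun a => ((hr a).comp continuous_subtype_val).subtype_mk _)
      ((hi.comp continuous_subtype_val).subtype_mk _)
      (fun a => by
        refine Topology.IsInducing.subtypeVal.continuous_iff.2 ?_
        exact (hc a.1).comp continuous_subtype_val)
      (ρ.comp D.subtype) (fun w φ c => (hρ w φ c).preimage continuous_subtype_val)
    choose χ hχ using hve
    obtain ⟨φ, hφ⟩ : ∃ φ : Module.Dual k V, φ v = 1 := Module.Projective.exists_dual_eq_one k hv
    have hχφ : ∀ d : D, χ d = φ (ρ d v) := fun d => by
      have e : ρ d v = χ d • v := hχ d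
      rw [e, map_smul, hφ, smul_eq_mul, mul_one]
    have hnorm : ∀ (m : M) (d : D), m⁻¹ * d * m ∈ D := fun m d => by
      simpa using (inferInstance : (commutator M).Normal).conj_mem d.1 d.2 m⁻¹
    have hconj : ∀ (d : D) (m : M), χ ⟨m⁻¹ * d * m, hnorm m d⟩ = χ d := fun d m => by
      have heig : ∀ m : M, ρ d (ρ m v) = χ ⟨m⁻¹ * d * m, hnorm m d⟩ • ρ m v := fun m => by
        have e : ρ (m⁻¹ * d * m) v = χ ⟨m⁻¹ * d * m, hnorm m d⟩ • v := hχ ⟨_, hnorm m d⟩
        rw [← map_smul, ← e, ← Module.End.mul_apply, ← Module.End.mul_apply, ← map_mul, ← map_mul]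
        group
      have hne : ∀ m : M, ρ m v ≠ 0 := fun m h0 => hv (by
        simpa [← Module.End.mul_apply, ← map_mul] using congrArg (ρ m⁻¹) h0)
      have hfin : (Set.range fun m : M => χ ⟨m⁻¹ * d * m, hnorm m d⟩).Finite := by
        refine (Module.End.finite_hasEigenvalue (ρ d)).subset ?_
        rintro _ ⟨m, rfl⟩
        exact Module.End.hasEigenvalue_of_hasEigenvector ⟨Module.End.mem_eigenspace_iff.2 (heig m), hne m⟩
      have hcl : ∀ c, IsClosed ((fun m : M => χ ⟨m⁻¹ * d * m, hnorm m d⟩) ⁻¹' {c}) := fun c => by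
        have hcont : Continuous fun m : M => m⁻¹ * d * m := by
          have e : (fun m : M => m⁻¹ * (d : M) * m) = fun m : M => (⁅(d : M), m⁻¹⁆)⁻¹ * (d : M) := funext fun m => by
            simp only [commutatorElement_def]; group
          rw [e]
          exact (hr _).comp (hi.comp ((hc _).comp hi))
        convert (hρ v φ c).preimage hcont using 1
        ext m
        simp [hχφ]
      have := eq_of_finite_range _ hfin hcl m 1
      simpa using this
    let W : Submodule k V := ⨅ d : D, LinearMap.ker (ρ d - χ d • LinearMap.id)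
    have hW : ∀ w, w ∈ W ↔ ∀ d : D, ρ d w = χ d • w := fun w => by simp [W, sub_eq_zero]
    have hvW : v ∈ W := (hW v).2 fun d => hχ d
    have hst : ∀ m, ∀ w ∈ W, ρ m w ∈ W := fun m w hw => (hW _).2 fun d => by
      have e : ρ (m⁻¹ * d * m) w = χ ⟨m⁻¹ * d * m, hnorm m d⟩ • w := (hW w).1 hw ⟨_, hnorm m d⟩
      rw [← hconj d m, ← map_smul, ← e, ← Module.End.mul_apply, ← Module.End.mul_apply, ← map_mul, ← map_mul]
      group
    let ρW : M →* Module.End k W :=
      { toFun := fun m => (ρ m).restrict (hst m)
        map_one' := by ext w; simp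
        map_mul' := fun a b => by ext w; simp }
    let δ : M →* kˣ := (LinearMap.det.comp ρW).toHomUnits
    haveI : Nontrivial W := Submodule.nontrivial_iff_ne_bot.2 fun hb => hv ((Submodule.mem_bot k).1 (hb ▸ hvW))
    have hdim : 0 < Module.finrank k W := Module.finrank_pos
    have hroot : ∀ d : D, χ d ^ Module.finrank k W = 1 := fun d => by
      have h1 : δ d = 1 := Abelianization.commutator_subset_ker δ d.2
      have h2 : LinearMap.det (ρW d) = 1 := congrArg Units.val h1
      have h3 : ρW d = χ d • (LinearMap.id : W →ₗ[k] W) := by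
        ext w
        exact (hW _).1 w.2 d
      rwa [h3, LinearMap.det_smul, LinearMap.det_id, mul_one] at h2
    have hone : ∀ d : D, χ d = 1 := fun d => by
      have hfin : (Set.range χ).Finite := by
        classical
        refine ((Polynomial.nthRoots (Module.finrank k W) (1 : k)).toFinset.finite_toSet).subset ?_
        rintro _ ⟨e, rfl⟩
        simp [Polynomial.mem_nthRoots hdim, hroot e]
      have hcl : ∀ c, IsClosed (χ ⁻¹' {c}) := fun c => by
        convert (hρ v φ c).preimage (continuous_subtype_val (p := (· ∈ D))) using 1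
        ext d
        simp [hχφ]
      rw [eq_of_finite_range χ hfin hcl d 1, hχφ, OneMemClass.coe_one, map_one]
      simp [hφ]
    have hcomm : ∀ a b : M, ∀ w ∈ W, ρ a (ρ b w) = ρ b (ρ a w) := fun a b w hw => by
      have hd : ⁅a, b⁆ ∈ D := Subgroup.commutator_mem_commutator (Subgroup.mem_top _) (Subgroup.mem_top _)
      have hbw : ρ b (ρ a w) ∈ W := hst b _ (hst a w hw)
      have := (hW _).1 hbw ⟨_, hd⟩
      rw [hone, one_smul] at this
      rw [← this, ← Module.End.mul_apply, ← Module.End.mul_apply, ← Module.End.mul_apply, ← map_mul, ← map_mul, ← map_mul]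
      simp [commutatorElement_def, mul_assoc]
    obtain ⟨u, -, hu0, hue⟩ := exists_common_eigvec (fun m => ρ m) _ W
      (fun hb => hv ((Submodule.mem_bot k).1 (hb ▸ hvW))) le_rfl hst hcomm
    exact ⟨u, hu0, hue⟩

end Groth.Agent.BorelFix21
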