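import Groth.Agent.Lib.PtsDetect19.Basic
import Groth.Agent.Lib.PerfProd19.Basic
import Groth.Agent.Lib.OrbitTop19.Smooth
import Groth.Prelude.Def_Red2
import Groth.Prelude.Def_VecGrp
import Mathlib.GroupTheory.Solvable
import Mathlib.LinearAlgebra.FiniteDimensional.Basic

/-!
# Solvability from rational points; groups stabilising a complete chain of subspaces
-/

set_option autoImplicit false
set_option linter.style.haveILetI false
set_option backward.isDefEq.respectTransparency.types false
universe u v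

open CategoryTheory MonoidalCategory CartesianMonoidalCategory MonObj AlgebraicGeometry
open scoped commutatorElement

noncomputable section

namespace Groth.Agent.BorelFix21

/-- Commutators of a normal closure. -/
theorem commutator_normalClosure_le {Γ : Type*} [Group Γ] (S : Set Γ) (N : Subgroup Γ) [N.Normal]
    (h : ∀ s ∈ Group.conjugatesOfSet S, ∀ t ∈ Group.conjugatesOfSet S, ⁅s, t⁆ ∈ N) :
    ⁅Subgroup.normalClosure S, Subgroup.normalClosure S⁆ ≤ N := by
  let π := QuotientGroup.mk' N
  have hcomm : ∀ a b : Γ, ⁅a, b⁆ ∈ N ↔ Commute (π a) (π b) := fun a b => by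
    show _ ↔ π a * π b = π b * π a
    rw [← commutatorElement_eq_one_iff_mul_comm, ← map_commutatorElement]
    exact (QuotientGroup.eq_one_iff _).symm
  rw [Subgroup.commutator_le]
  intro a ha b hb
  rw [hcomm]
  have h1 : ∀ s ∈ Group.conjugatesOfSet S, Commute (π a) (π s) := by
    intro s hs
    let C := (Subgroup.centralizer ({π s} : Set (Γ ⧸ N))).comap π
    have hle : Subgroup.normalClosure S ≤ C := (Subgroup.closure_le C).2 fun t ht => by
      show π t ∈ Subgroup.centralizer ({π s} : Set (Γ ⧸ N))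
      exact Subgroup.mem_centralizer_singleton_iff.2 ((hcomm t s).1 (h t ht s hs)).eq
    exact (Subgroup.mem_centralizer_singleton_iff.1 (hle ha) :)
  let C := (Subgroup.centralizer ({π a} : Set (Γ ⧸ N))).comap π
  have hle : Subgroup.normalClosure S ≤ C := (Subgroup.closure_le C).2 fun t ht => by
    show π t ∈ Subgroup.centralizer ({π a} : Set (Γ ⧸ N))
    exact Subgroup.mem_centralizer_singleton_iff.2 (h1 t ht).eq.symm
  exact (Subgroup.mem_centralizer_singleton_iff.1 (hle hb) : π b * π a = π a * π b).symm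

variable {k : Type u} [Field k] (G : Over (Spec (CommRingCat.of k))) [GrpObj G]

/-- The variables of the derived word maps. -/
def wordObj : ℕ → Over (Spec (CommRingCat.of k))
  | 0 => G
  | n + 1 => (G ⊗ wordObj n) ⊗ (G ⊗ wordObj n)

/-- Conjugates of a word. -/
def cj {P : Over (Spec (CommRingCat.of k))} (w : P ⟶ G) : G ⊗ P ⟶ G :=
  fst G P * (snd G P ≫ w) * (fst G P)⁻¹

/-- The derived word maps. -/
def word : ∀ n, wordObj G n ⟶ G
  | 0 => 𝟙 G
  | n + 1 => (⁅fst (G ⊗ wordObj G n) (G ⊗ wordObj G n) ≫ cj G (word n),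
      snd (G ⊗ wordObj G n) (G ⊗ wordObj G n) ≫ cj G (word n)⁆ :
      (G ⊗ wordObj G n) ⊗ (G ⊗ wordObj G n) ⟶ G)

variable {G}

theorem comp_commutator {T P : Over (Spec (CommRingCat.of k))} (q : T ⟶ P) (a b : P ⟶ G) :
    q ≫ ⁅a, b⁆ = ⁅q ≫ a, q ≫ b⁆ := by
  simp only [commutatorElement_def, MonObj.comp_mul, GrpObj.comp_inv]

theorem comp_cj {T P : Over (Spec (CommRingCat.of k))} (g : T ⟶ G) (q : T ⟶ P) (w : P ⟶ G) :
    lift g q ≫ cj G w = g * (q ≫ w) * g⁻¹ := by
  simp only [cj, MonObj.comp_mul, GrpObj.comp_inv, lift_fst, lift_snd_assoc]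

theorem comp_word_succ {T : Over (Spec (CommRingCat.of k))} (n : ℕ)
    (q : T ⟶ (G ⊗ wordObj G n) ⊗ (G ⊗ wordObj G n)) :
    q ≫ word G (n + 1) = ⁅(q ≫ fst _ _) ≫ cj G (word G n), (q ≫ snd _ _) ≫ cj G (word G n)⁆ := by
  refine (comp_commutator q _ _).trans ?_
  simp only [Category.assoc]

theorem derivedSeries_le (T : Over (Spec (CommRingCat.of k))) (n : ℕ) :
    derivedSeries (T ⟶ G) n ≤ Subgroup.normalClosure (Set.range fun q : T ⟶ wordObj G n => q ≫ word G n) := by
  induction n with
  | zero => exact fun x _ => Subgroup.subset_normalClosure ⟨x, Category.comp_id x⟩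
  | succ n ih =>
    rw [derivedSeries_succ]
    refine (Subgroup.commutator_mono ih ih).trans (commutator_normalClosure_le _ _ fun s hs t ht => ?_)
    obtain ⟨_, ⟨q, rfl⟩, hs⟩ := Group.mem_conjugatesOfSet_iff.1 hs
    obtain ⟨_, ⟨q', rfl⟩, ht⟩ := Group.mem_conjugatesOfSet_iff.1 ht
    obtain ⟨g, rfl⟩ := isConj_iff.1 hs
    obtain ⟨g', rfl⟩ := isConj_iff.1 ht
    refine Subgroup.subset_normalClosure ⟨lift (lift g q) (lift g' q'), ?_⟩
    show _ ≫ word G (n + 1) = _
    refine (comp_word_succ n _).trans ?_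
    rw [lift_fst, lift_snd, comp_cj, comp_cj]

theorem word_mem_derivedSeries (T : Over (Spec (CommRingCat.of k))) (n : ℕ) :
    ∀ q : T ⟶ wordObj G n, q ≫ word G n ∈ derivedSeries (T ⟶ G) n := by
  induction n with
  | zero => exact fun q => Subgroup.mem_top _
  | succ n ih =>
    intro q
    have hnorm : (derivedSeries (T ⟶ G) n).Normal := derivedSeries_normal _ n
    rw [derivedSeries_succ, show q ≫ word G (n + 1) = _ from comp_word_succ n q]
    refine Subgroup.commutator_mem_commutator ?_ ?_ <;>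
    · rw [cj]
      simp only [MonObj.comp_mul, GrpObj.comp_inv]
      exact hnorm.conj_mem _ (by rw [← Category.assoc]; exact ih _) _

/-- A smooth group with solvable rational points is solvable. -/
theorem isSolvableGrp_of_points [IsAlgClosed k] [Smooth G.hom] [IsSeparated G.hom]
    (h : Group.IsSolvable (VecGrp.pt k k ⟶ G)) : Red.IsSolvableGrp G := by
  obtain ⟨n, hn⟩ := (Group.isSolvable_def _).1 h
  refine ⟨n, fun T => le_bot_iff.1 ((derivedSeries_le T n).trans ?_)⟩
  have hs : ∀ m, Smooth (wordObj G m).hom := by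
    intro m
    induction m with
    | zero => exact inferInstanceAs (Smooth G.hom)
    | succ m ih =>
      haveI := ih
      haveI : Smooth (G ⊗ wordObj G m).hom :=
        inferInstanceAs (Smooth (Limits.pullback.fst G.hom (wordObj G m).hom ≫ G.hom))
      exact inferInstanceAs (Smooth (Limits.pullback.fst (G ⊗ wordObj G m).hom (G ⊗ wordObj G m).hom ≫
        (G ⊗ wordObj G m).hom))
  haveI := hs n
  haveI := OrbitTop19.isReduced_of_smooth (wordObj G n).hom
  haveI := PtsDetect19.isClosedImmersion_diag G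
  have hw : word G n = 1 := by
    obtain ⟨l, hl⟩ := PtsDetect19.exists_lift_algClosed (k := k) k (lift (word G n) 1) (lift (𝟙 G) (𝟙 G))
      (fun w => ⟨w ≫ word G n, by
        rw [comp_lift, comp_lift, Category.comp_id, MonObj.comp_one]
        have := word_mem_derivedSeries (VecGrp.pt k k) n w
        rw [hn, Subgroup.mem_bot] at this
        exact congrArg (lift (w ≫ word G n)) this⟩)
    have h1 := congrArg (· ≫ fst G G) hl
    have h2 := congrArg (· ≫ snd G G) hl
    simp only [comp_lift, lift_fst, lift_snd, Category.comp_id] at h1 h2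
    exact h1.symm.trans h2
  refine Subgroup.normalClosure_le_normal ?_
  rintro _ ⟨q, rfl⟩
  show q ≫ word G n ∈ (⊥ : Subgroup (T ⟶ G))
  rw [hw, MonObj.comp_one]
  exact one_mem _

omit [GrpObj G]

variable {Γ : Type v} [Group Γ] {W : Type u} [AddCommGroup W] [Module k W] [FiniteDimensional k W]

/-- A group stabilising a complete chain of subspaces has derived subgroups acting trivially. -/
theorem exists_derivedSeries_fix (ρ : Γ →* (W ≃ₗ[k] W))
    (hchain : ∀ U : Submodule k W, U ≠ ⊥ → (∀ g, ∀ u ∈ U, ρ g u ∈ U) →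
      ∃ U' : Submodule k W, U' ≤ U ∧ (∀ g, ∀ u ∈ U', ρ g u ∈ U') ∧ ∃ v ∈ U, v ∉ U' ∧ U ≤ U' ⊔ k ∙ v)
    (U : Submodule k W) (hU : ∀ g, ∀ u ∈ U, ρ g u ∈ U) : ∃ n, ∀ g ∈ derivedSeries Γ n, ∀ u ∈ U, ρ g u = u := by
  induction U using WellFoundedLT.induction with
  | _ U ih =>
    by_cases hU0 : U = ⊥
    · exact ⟨0, fun g _ u hu => by rw [hU0, Submodule.mem_bot] at hu; rw [hu, map_zero]⟩
    obtain ⟨U', hle, hU', v, hv, hv', hsup⟩ := hchain U hU0 hU
    obtain ⟨n, hn⟩ := ih U' (lt_of_le_not_ge hle fun h => hv' (h hv)) hU'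
    have hc : ∀ g, ∃ c : k, ρ g v - c • v ∈ U' := fun g => by
      obtain ⟨u, hu, w, hw, he⟩ := Submodule.mem_sup.1 (hsup (hU g v hv))
      obtain ⟨c, rfl⟩ := Submodule.mem_span_singleton.1 hw
      exact ⟨c, by rw [← he, add_sub_cancel_right]; exact hu⟩
    choose c hc using hc
    have huniq : ∀ g (d : k), ρ g v - d • v ∈ U' → c g = d := fun g d hd => by
      by_contra hne
      have h2 : (c g - d) • v ∈ U' := by
        have := U'.sub_mem hd (hc g)
        rwa [sub_sub_sub_cancel_left, ← sub_smul] at this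
      exact hv' ((U'.smul_mem_iff (sub_ne_zero.2 hne)).1 h2)
    let χ : Γ →* k :=
      { toFun := c
        map_one' := huniq 1 1 (by rw [map_one, one_smul]; show v - v ∈ U'; rw [sub_self]; exact U'.zero_mem)
        map_mul' := fun g h => huniq _ _ (by
          rw [map_mul, show ((ρ g * ρ h) v : W) = ρ g (ρ h v) from rfl]
          have := U'.add_mem (hU' g _ (hc h)) (U'.smul_mem (c h) (hc g))
          rw [map_sub, map_smul, smul_sub, smul_smul, sub_add_sub_cancel, mul_comm (c h)] at this
          exact this) }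
    have h1 : ∀ g ∈ derivedSeries Γ (n + 1), ρ g v - v ∈ U' := fun g hg => by
      have hcomm : derivedSeries Γ 1 ≤ MonoidHom.ker χ.toHomUnits := by
        rw [derivedSeries_one, commutator_def, Subgroup.commutator_le]
        intro a _ b _
        rw [MonoidHom.mem_ker, map_commutatorElement, commutatorElement_eq_one_iff_mul_comm]
        exact mul_comm _ _
      have hg1 : g ∈ derivedSeries Γ 1 := derivedSeries_antitone Γ (Nat.le_add_left 1 n) hg
      have hχ : c g = 1 := congrArg Units.val (MonoidHom.mem_ker.1 (hcomm hg1))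
      have := hc g
      rwa [hχ, one_smul] at this
    have hfix : ∀ g ∈ derivedSeries Γ (n + 1), ∀ u ∈ U', ρ g u = u := fun g hg =>
      hn g (derivedSeries_antitone Γ (Nat.le_add_right n 1) hg)
    refine ⟨n + 2, fun g hg u hu => ?_⟩
    obtain ⟨u', hu', w, hw, rfl⟩ := Submodule.mem_sup.1 (hsup hu)
    obtain ⟨d, rfl⟩ := Submodule.mem_span_singleton.1 hw
    suffices hv1 : ρ g v = v by
      rw [map_add, map_smul, hv1, hn g (derivedSeries_antitone Γ (Nat.le_add_right n 2) hg) u' hu']
    let K : Subgroup Γ :=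
      { carrier := {g | ρ g v = v}
        one_mem' := by show ρ 1 v = v; rw [map_one]; rfl
        mul_mem' := fun {a b} ha hb => by
          show ρ (a * b) v = v
          rw [map_mul]
          show ρ a (ρ b v) = v
          rw [hb, ha]
        inv_mem' := fun {a} ha => by
          show ρ a⁻¹ v = v
          conv_lhs => rw [← ha]
          show (ρ a⁻¹ * ρ a) v = v
          rw [← map_mul, inv_mul_cancel, map_one]
          rfl }
    refine (Subgroup.commutator_le (H₃ := K)).2 ?_ (show g ∈ ⁅derivedSeries Γ (n + 1), derivedSeries Γ (n + 1)⁆ from hg)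
    intro a ha b hb
    show ρ ⁅a, b⁆ v = v
    have hab : ρ (a * b) v = ρ (b * a) v := by
      have e1 : ρ (a * b) v = ρ a (ρ b v) := by rw [map_mul]; rfl
      have e2 : ρ (b * a) v = ρ b (ρ a v) := by rw [map_mul]; rfl
      rw [e1, e2]
      have ea : ρ a v = v + (ρ a v - v) := (add_sub_cancel v _).symm
      have eb : ρ b v = v + (ρ b v - v) := (add_sub_cancel v _).symm
      rw [eb, map_add (ρ a), hfix a ha _ (h1 b hb)]
      conv_rhs => rw [ea, map_add (ρ b), hfix b hb _ (h1 a ha)]
      abel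
    have e3 : ⁅a, b⁆ * (b * a) = a * b := by rw [commutatorElement_def]; group
    have e4 : ρ ⁅a, b⁆ (ρ (b * a) v) = ρ (a * b) v := by
      show (ρ ⁅a, b⁆ * ρ (b * a)) v = _
      rw [← map_mul, e3]
    rw [hab] at e4
    have hba : ∀ z, ρ (b * a) z = v → z = ρ (b * a)⁻¹ v := fun z hz => by
      rw [← hz]
      show z = (ρ (b * a)⁻¹ * ρ (b * a)) z
      rw [← map_mul, inv_mul_cancel, map_one]
      rfl
    have e5 : ρ (b * a) v - v ∈ U' := h1 _ (mul_mem hb ha)
    have e6 : ρ ⁅a, b⁆ (ρ (b * a) v - v) = ρ (b * a) v - v := hfix _ (by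
      rw [commutatorElement_def]; exact mul_mem (mul_mem (mul_mem ha hb) (inv_mem ha)) (inv_mem hb)) _ e5
    rw [map_sub, e4] at e6
    exact sub_right_injective e6

/-- A group acting faithfully and stabilising a complete chain is solvable. -/
theorem isSolvable_of_chain (ρ : Γ →* (W ≃ₗ[k] W)) (hinj : Function.Injective ρ)
    (hchain : ∀ U : Submodule k W, U ≠ ⊥ → (∀ g, ∀ u ∈ U, ρ g u ∈ U) →
      ∃ U' : Submodule k W, U' ≤ U ∧ (∀ g, ∀ u ∈ U', ρ g u ∈ U') ∧ ∃ v ∈ U, v ∉ U' ∧ U ≤ U' ⊔ k ∙ v) :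
    Group.IsSolvable Γ := by
  obtain ⟨n, hn⟩ := exists_derivedSeries_fix ρ hchain ⊤ fun _ _ _ => Submodule.mem_top
  exact (Group.isSolvable_def _).2 ⟨n, (Subgroup.eq_bot_iff_forall _).2 fun g hg =>
    hinj (LinearEquiv.ext fun u => by rw [hn g hg u Submodule.mem_top, map_one]; rfl)⟩

end Groth.Agent.BorelFix21
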