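import Groth.Agent.Lib.BorelFix21.Parabolic

/-!
# Images of Borel and parabolic subgroups
-/

set_option autoImplicit false
set_option linter.style.haveILetI false
set_option backward.isDefEq.respectTransparency.types false
universe u

open CategoryTheory MonoidalCategory CartesianMonoidalCategory MonObj AlgebraicGeometry

noncomputable section

namespace Groth.Agent.BorelFix21

variable {k : Type u} [Field k] [IsAlgClosed k]

section Proper

variable {G Q P P' : Over (Spec (CommRingCat.of k))} [GrpObj G] [GrpObj Q] [GrpObj P] [GrpObj P'] [IsAffine G.left]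
  [Smooth G.hom] [IsAffine Q.left] [Smooth Q.hom] (q : G ⟶ Q) [IsMonHom q] [Surjective q.left] (iP : P ⟶ G)
  [IsMonHom iP] [IsClosedImmersion iP.left] (iP' : P' ⟶ Q) [IsMonHom iP'] [IsClosedImmersion iP'.left] (p : P ⟶ P')
  (hp : p ≫ iP' = iP ≫ q)

include hp

/-- The quotient by the image is proper when the quotient is. -/
theorem exists_isProper_quotient_image {X : Over (Spec (CommRingCat.of k))} {a : AlgGrp.Action G X}
    {o : 𝟙_ (Over (Spec (CommRingCat.of k))) ⟶ X} (hX : AGF.IsQuotient iP X a o) [IsProper X.hom] :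
    ∃ (Y : Over (Spec (CommRingCat.of k))) (b : AlgGrp.Action Q Y) (y : 𝟙_ (Over (Spec (CommRingCat.of k))) ⟶ Y),
      AGF.IsQuotient iP' Y b y ∧ IsProper Y.hom := by
  obtain ⟨Y, b, y, hY, hYs, hYq⟩ := GrassAct21.exists_quotient iP'
  obtain ⟨hlft, -, hsurj, hpb⟩ := id hY
  haveI := hlft
  haveI := hsurj
  haveI := hYs
  haveI := hYq
  haveI := hX.1
  haveI : IsAffine P.left := isAffine_of_isAffineHom iP.left
  haveI : LocallyOfFiniteType P.hom := by rw [← Over.w iP]; infer_instance
  have h1 : iP' ≫ b.orbitMap y = toUnit P' ≫ y := by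
    have hw := congrArg (lift (1 : P' ⟶ Q) (𝟙 P') ≫ ·) hpb.w
    simp only [← Category.assoc, lift_fst, InvRing21.whisker_mul, MonObj.comp_mul, lift_snd,
      Category.id_comp] at hw
    rw [_root_.one_mul iP', AlgGrp.Action.comp_orbitMap b (1 : P' ⟶ Q), AlgGrpBasic19.act_one] at hw
    exact hw.symm
  have hfix : ∀ (T : Over (Spec (CommRingCat.of k))) (h : T ⟶ P),
      lift (h ≫ iP) (toUnit T ≫ y) ≫ (b.restrict q).act = toUnit T ≫ y := by
    intro T h
    rw [AlgGrp.Action.lift_restrict_act, ← AlgGrp.Action.comp_orbitMap, Category.assoc h, ← hp, ← Category.assoc h,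
      Category.assoc, h1, ← Category.assoc, comp_toUnit]
  obtain ⟨f, ⟨-, hf⟩, -⟩ := Groth.Agent.S8014.result k G P iP X a o hX Y (b.restrict q) y hfix
  have hqf : (b.restrict q).orbitMap y = q ≫ b.orbitMap y := by
    rw [AlgGrp.Action.orbitMap, AlgGrp.Action.lift_restrict_act, AlgGrp.Action.comp_orbitMap, Category.id_comp]
  haveI : Surjective f.left := ⟨fun z => by
    obtain ⟨h, hh⟩ := (b.orbitMap y).left.surjective z
    obtain ⟨g, hg⟩ := q.left.surjective h
    refine ⟨(a.orbitMap o).left g, (OrbitTop19.apply_comp_left (a.orbitMap o) f _ (hf.trans hqf) g).trans ?_⟩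
    rw [Over.comp_left, Scheme.Hom.comp_apply, hg, hh]⟩
  haveI : UniversallyClosed (f.left ≫ Y.hom) := by rw [Over.w f]; infer_instance
  haveI : UniversallyClosed Y.hom := UniversallyClosed.of_comp_surjective f.left Y.hom
  exact ⟨Y, b, y, hY, { }⟩

variable [ConnectedSpace G.left] [ConnectedSpace Q.left] [IsReduced P'.left]

/-- The image of a parabolic subgroup is parabolic. -/
theorem isParabolicOver_image (hP : Red.IsParabolicOver k iP) : Red.IsParabolicOver k iP' := by
  obtain ⟨-, -, hs, B, _, b, hb⟩ := hP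
  haveI := hs
  haveI : IsAffine P'.left := isAffine_of_isAffineHom iP'.left
  haveI : LocallyOfFiniteType P'.hom := by rw [← Over.w iP']; infer_instance
  haveI : Smooth P'.hom := GrpSmooth19.smooth_of_isReduced P'
  obtain ⟨X, a, o, hX, -, -⟩ := GrassAct21.exists_quotient iP
  haveI := isProper_of_borel_le hX b hb
  obtain ⟨Y, c, y, hY, hYp⟩ := exists_isProper_quotient_image q iP iP' p hp hX
  exact ⟨inferInstance, inferInstance, inferInstance, exists_borel_le_of_isProper hY⟩

/-- The image of a Borel subgroup is a Borel subgroup. -/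
theorem isBorelOver_image [Surjective p.left] (hP : Red.IsBorelOver k iP) : Red.IsBorelOver k iP' := by
  obtain ⟨-, -, hs, hn, hsol, -⟩ := id hP
  haveI := hs
  haveI := hn
  haveI : IsAffine P'.left := isAffine_of_isAffineHom iP'.left
  haveI : IsAffine P.left := isAffine_of_isAffineHom iP.left
  haveI : LocallyOfFiniteType P'.hom := by rw [← Over.w iP']; infer_instance
  haveI : Smooth P'.hom := GrpSmooth19.smooth_of_isReduced P'
  haveI : ConnectedSpace P'.left := p.left.surjective.connectedSpace p.left.continuous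
  haveI : Mono iP' := Over.mono_of_mono_left iP'
  haveI : IsMonHom p := isMonHom_of_comp iP' p (hp ▸ inferInstance)
  have hsol' : Red.IsSolvableGrp P' := by
    obtain ⟨n, hn'⟩ := hsol
    refine isSolvableGrp_of_points ((Group.isSolvable_def _).2 ⟨n, ?_⟩)
    let F : (VecGrp.pt k k ⟶ P) →* (VecGrp.pt k k ⟶ P') :=
      MonoidHom.mk' (fun x => x ≫ p) (fun x y => MonObj.mul_comp x y p)
    rw [← map_derivedSeries_eq (f := F) (fun y => exists_pt_lift p y) n, hn', Subgroup.map_bot]
  obtain ⟨X, a, o, hX, -, -⟩ := GrassAct21.exists_quotient iP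
  haveI := isProper_of_borel_le hX (𝟙 P) (by rwa [Category.id_comp])
  obtain ⟨Y, c, y, hY, hYp⟩ := exists_isProper_quotient_image q iP iP' p hp hX
  haveI := hYp
  refine ⟨inferInstance, inferInstance, inferInstance, inferInstance, hsol', ?_⟩
  intro B' _ i' _ f hi' hB' hBc hBs hf
  haveI := hi'
  haveI := hB'
  haveI := hBc
  exact isIso_of_le iP' i' hBs hY f hf

end Proper

/-- The reduced image of a homomorphism from a smooth affine group. -/
theorem exists_image {B Q : Over (Spec (CommRingCat.of k))} [GrpObj B] [GrpObj Q] [IsAffine B.left] [Smooth B.hom]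
    [IsAffine Q.left] [Smooth Q.hom] (f : B ⟶ Q) [IsMonHom f] :
    ∃ (H : Over (Spec (CommRingCat.of k))) (_ : GrpObj H) (i : H ⟶ Q) (p : B ⟶ H), IsMonHom i ∧
      IsClosedImmersion i.left ∧ IsReduced H.left ∧ Surjective p.left ∧ p ≫ i = f := by
  haveI : QuasiCompact f.left := inferInstance
  let Z : Over (Spec (CommRingCat.of k)) := Over.mk (f.left.imageι ≫ Q.hom)
  let i : Z ⟶ Q := Over.homMk f.left.imageι rfl
  let g : B ⟶ Z := Over.homMk f.left.toImage (by
    show f.left.toImage ≫ f.left.imageι ≫ Q.hom = B.hom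
    rw [Scheme.Hom.toImage_imageι_assoc, Over.w])
  have hgi : g ≫ i = f := Over.OverMorphism.ext f.left.toImage_imageι
  haveI : IsClosedImmersion i.left := inferInstanceAs (IsClosedImmersion f.left.imageι)
  haveI : IsSchemeTheoreticallyDominant g.left := AbRigid.isSchemeTheoreticallyDominant_toImage f.left
  obtain ⟨hZ, hi, hg⟩ := GrpImage19.exists_grpObj f i g hgi
  haveI := GrpImage19.surjective f i g hgi
  haveI := hi
  haveI := hg
  haveI : LocallyOfFiniteType Z.hom := by rw [← Over.w i]; infer_instance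
  obtain ⟨H, _, r, hr, hrc, hrs, hHr, hHs⟩ := exists_reduced_subgroup Z
  haveI := hr
  haveI := hrc
  haveI := hHr
  haveI : IsReduced B.left := OrbitTop19.isReduced_of_smooth B.hom
  obtain ⟨g', hg'⟩ := PerfProd19.exists_lift_of_surjective r g
  refine ⟨H, inferInstance, r ≫ i, g', inferInstance, inferInstanceAs (IsClosedImmersion (r.left ≫ i.left)), hHr,
    ⟨fun h => ?_⟩, by rw [← Category.assoc, hg', hgi]⟩
  obtain ⟨w, hw⟩ := g.left.surjective (r.left h)
  exact ⟨w, r.left.isClosedEmbedding.injective ((OrbitTop19.apply_comp_left g' r g hg' w).trans hw)⟩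

variable {G Q : Over (Spec (CommRingCat.of k))} [GrpObj G] [GrpObj Q] [IsAffine G.left] [Smooth G.hom]
  [ConnectedSpace G.left] [IsAffine Q.left] [Smooth Q.hom] [ConnectedSpace Q.left] (q : G ⟶ Q) [IsMonHom q]
  [Surjective q.left]

/-- Borel subgroups of the image are images of Borel subgroups. -/
theorem exists_borel_over {B' : Over (Spec (CommRingCat.of k))} [GrpObj B'] (iB' : B' ⟶ Q)
    (hB' : Red.IsBorelOver k iB') :
    ∃ (B : Over (Spec (CommRingCat.of k))) (_ : GrpObj B) (iB : B ⟶ G) (p : B ⟶ B'),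
      Red.IsBorelOver k iB ∧ Surjective p.left ∧ p ≫ iB' = iB ≫ q := by
  obtain ⟨B, _, iB, hB, -⟩ := exists_isBorelOver G
  obtain ⟨hm, hc, hs, hn, hsol, -⟩ := id hB
  haveI := hm
  haveI := hc
  haveI := hs
  haveI := hn
  haveI : IsAffine B.left := isAffine_of_isAffineHom iB.left
  obtain ⟨H, _, iH, p, hiH, hHc, hHr, hps, hp⟩ := exists_image (iB ≫ q)
  haveI := hiH
  haveI := hHc
  haveI := hHr
  haveI := hps
  have hH := isBorelOver_image q iB iH p hp hB
  obtain ⟨g, f, hf⟩ := exists_conjBy iH iB' hH hB'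
  let e : VecGrp.pt k k ⟶ 𝟙_ (Over (Spec (CommRingCat.of k))) := toUnit _
  let e' : 𝟙_ (Over (Spec (CommRingCat.of k))) ⟶ VecGrp.pt k k := InvRing21.toPt _
  obtain ⟨x, hx⟩ := exists_pt_lift q (e ≫ g)
  have hg : (e' ≫ x) ≫ q = g := by
    rw [Category.assoc, hx, ← Category.assoc, toUnit_unique (e' ≫ e) (𝟙 _), Category.id_comp]
  refine ⟨B, inferInstance, (toUnit B ≫ (e' ≫ x)⁻¹)⁻¹ * iB * (toUnit B ≫ (e' ≫ x)⁻¹), p ≫ f.hom,
    isBorelOver_conj iB hB _, ?_, ?_⟩
  · haveI : IsIso f.hom.left := inferInstanceAs (IsIso ((Over.forget _).map f.hom))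
    exact inferInstanceAs (Surjective (p.left ≫ f.hom.left))
  · rw [Category.assoc, hf, MonObj.mul_comp, MonObj.mul_comp, GrpObj.inv_comp, Category.assoc (toUnit B),
      GrpObj.inv_comp, hg, GrpObj.comp_inv, inv_inv]
    simp only [MonObj.comp_mul, GrpObj.comp_inv, ← Category.assoc, comp_toUnit, hp]

end Groth.Agent.BorelFix21
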